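import Cfsg.Prelude.Def_GeometricClasses
import Cfsg.Agent.S3762
import Cfsg.Agent.Lib.Cores.Frattini
import Mathlib

/-!
Groups of symplectic type and exponent four, realised as absolutely irreducible matrix groups.
-/

set_option autoImplicit false

namespace Cfsg.Agent.Lib.SympFour

open Matrix

variable {ι : Type} [Fintype ι] [DecidableEq ι] {F : Type*} [Field F]

local notation "M" => Matrix ι ι F

/-- `x` is a scalar matrix. -/
def IsScal (x : M) : Prop := ∃ c : F, x = c • 1

/-- The defining relations of a symplectic type group of exponent four. -/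
structure Pauli (R : Subgroup (GL ι F)) : Prop where
  sq : ∀ s ∈ R, (s : M) * s = 1 ∨ (s : M) * s = -1
  comm : ∀ s ∈ R, ∀ t ∈ R, (s : M) * t = t * s ∨ (s : M) * t = -((t : M) * s)
  abs : ∀ X : M, (∀ s ∈ R, X * s = (s : M) * X) → IsScal X
  negmem : (-1 : GL ι F) ∈ R
  fin : Finite R

/-- In a group of symplectic type and exponent four, squares are central. -/
theorem sq_central {G : Type*} [Group G] [Finite G] [Fact (Nat.Prime 2)] (hG : IsPGroup 2 G)
    (hsymp : ∀ A : Subgroup G, A.Characteristic → IsMulCommutative A → IsCyclic A)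
    (hexp : ∀ g : G, g ^ 4 = 1) (x : G) : x * x ∈ Subgroup.center G := by
  obtain ⟨E, C, hEC, hsup, hE, hC⟩ := S3762.result hG hsymp
  have hord : ∀ (g : G), orderOf g ≤ 4 := fun g =>
    Nat.le_of_dvd (by norm_num) (orderOf_dvd_of_pow_eq_one (hexp g))
  have hCcy : IsCyclic C := by
    refine hC.resolve_right ?_
    rintro ⟨-, h16, (⟨m, ⟨e⟩⟩ | ⟨m, ⟨e⟩⟩ | ⟨n, hn, hcard, a, b, ha, -, -⟩)⟩
    · have hc := Nat.card_congr e.toEquiv
      rw [DihedralGroup.nat_card] at hc
      have h1 := hord ((e.symm (DihedralGroup.r 1) : C) : G)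
      rw [Subgroup.orderOf_coe, e.symm.orderOf_eq, DihedralGroup.orderOf_r_one] at h1
      omega
    · rcases Nat.eq_zero_or_pos m with rfl | hm
      · haveI : Infinite (QuaternionGroup 0) :=
          Infinite.of_injective (fun n : ℤ => QuaternionGroup.a n) fun a b h => by injection h
        haveI := Finite.of_equiv _ e.toEquiv
        exact not_finite (QuaternionGroup 0)
      haveI : NeZero m := ⟨hm.ne'⟩
      have hc := Nat.card_congr e.toEquiv
      rw [Nat.card_eq_fintype_card (α := QuaternionGroup m), QuaternionGroup.card] at hc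
      have h1 := hord ((e.symm (QuaternionGroup.a 1) : C) : G)
      rw [Subgroup.orderOf_coe, e.symm.orderOf_eq, QuaternionGroup.orderOf_a_one] at h1
      omega
    · have h1 := hord (a : G)
      rw [Subgroup.orderOf_coe, ha] at h1
      have : 2 ^ 3 ≤ 2 ^ n := Nat.pow_le_pow_right (by norm_num) hn
      omega
  have hCc : ∀ r ∈ C, r ∈ Subgroup.center G := by
    intro r hr
    rw [Subgroup.mem_center_iff]
    intro g
    have hg : g ∈ E ⊔ C := hsup ▸ Subgroup.mem_top g
    rw [sup_comm] at hg
    refine Subgroup.closure_induction (p := fun g _ => g * r = r * g) ?_ (by simp) ?_ ?_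
      (by rwa [Subgroup.sup_eq_closure] at hg : g ∈ Subgroup.closure ((C : Set G) ∪ E))
    · rintro y (hy | hy)
      · letI := hCcy
        letI := IsCyclic.commGroup (α := C)
        exact congrArg Subtype.val (mul_comm (⟨y, hy⟩ : C) ⟨r, hr⟩)
      · exact hEC y hy r hr
    · intro y z _ _ h1 h2
      exact (Commute.mul_left h1 h2).eq
    · intro y _ h1
      exact (Commute.inv_left h1).eq
  have hn : E ≤ Subgroup.normalizer (C : Set G) := fun e he y => by
    constructor <;> intro hy
    · rwa [hEC e he y hy, mul_inv_cancel_right]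
    · have h1 := hEC e⁻¹ (inv_mem he) _ hy
      have h2 : e⁻¹ * (e * y * e⁻¹) * e = e * y * e⁻¹ := by rw [h1]; group
      rw [show e⁻¹ * (e * y * e⁻¹) * e = y by group] at h2
      rwa [h2]
  obtain ⟨e, he, r, hr, rfl⟩ : ∃ e ∈ E, ∃ r ∈ C, e * r = x := by
    have hx : x ∈ ((E ⊔ C : Subgroup G) : Set G) := by rw [hsup]; trivial
    rw [Subgroup.coe_mul_of_left_le_normalizer_right E C hn] at hx
    exact Set.mem_mul.mp hx
  have hee : e * e ∈ Subgroup.center G := by
    rcases hE with rfl | hEx
    · rw [Subgroup.mem_bot.mp he, one_mul]; exact one_mem _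
    · have h1 : (⟨e, he⟩ : E) * ⟨e, he⟩ ∈ Subgroup.center E := by
        rw [← hEx.1.2.1, ← pow_two]
        exact Cores.pow_mem_frattini hEx.1.1 _
      rw [Subgroup.mem_center_iff]
      intro g
      have hg : g ∈ E ⊔ C := hsup ▸ Subgroup.mem_top g
      refine Subgroup.closure_induction (p := fun g _ => g * (e * e) = e * e * g) ?_ (by simp) ?_ ?_
        (by rwa [Subgroup.sup_eq_closure] at hg : g ∈ Subgroup.closure ((E : Set G) ∪ C))
      · rintro y (hy | hy)
        · exact congrArg Subtype.val (Subgroup.mem_center_iff.mp h1 ⟨y, hy⟩)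
        · exact (hEC _ (mul_mem he he) y hy).symm
      · intro y z _ _ h1 h2
        exact (Commute.mul_left h1 h2).eq
      · intro y _ h1
        exact (Commute.inv_left h1).eq
  rw [show e * r * (e * r) = (e * e) * (r * r) by
    calc e * r * (e * r) = e * (r * e) * r := by group
      _ = e * (e * r) * r := by rw [hEC e he r hr]
      _ = (e * e) * (r * r) := by group]
  exact mul_mem hee (mul_mem (hCc r hr) (hCc r hr))

theorem eq_one_or_neg_of_sq [Nonempty ι] {c : F} (h : (c • (1 : M)) * (c • 1) = 1) :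
    c • (1 : M) = 1 ∨ c • (1 : M) = -1 := by
  rw [smul_mul_smul_comm, one_mul] at h
  obtain ⟨i⟩ := ‹Nonempty ι›
  have h1 := congrFun (congrFun h i) i
  simp at h1
  rcases mul_self_eq_one_iff.mp h1 with e | e
  · exact Or.inl (by rw [e, one_smul])
  · exact Or.inr (by rw [e, neg_one_smul])

/-- The relations follow from the definitions. -/
theorem pauli_of [Finite F] [Nonempty ι] {R : Subgroup (GL ι F)} (hRs : Cfsg.Geo.IsSymplecticTypeGroup 2 R)
    (hRi : Cfsg.Geo.ActsAbsolutelyIrreducibly (Cfsg.Geo.matrixSet R)) (hZ : 1 < Nat.card (Subgroup.center R)) :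
    Pauli R := by
  haveI : Fact (Nat.Prime 2) := ⟨Nat.prime_two⟩
  haveI : Finite R := inferInstance
  have hexp : ∀ g : R, g ^ 4 = 1 := fun g => by
    have h := hRs.exponent_eq
    norm_num at h
    rw [← h]
    exact Monoid.pow_exponent_eq_one g
  have habs : ∀ X : M, (∀ s ∈ R, X * s = (s : M) * X) → IsScal X := fun X hX =>
    hRi.2 X (by rintro _ ⟨s, hs, rfl⟩; exact hX s hs)
  have hsc : ∀ g ∈ Subgroup.center R, ∃ c : F, ((g : GL ι F) : M) = c • 1 := fun g hg =>
    habs _ fun s hs => by
      have := congrArg (fun y : R => ((y : GL ι F) : M)) (Subgroup.mem_center_iff.mp hg ⟨s, hs⟩)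
      simpa using this.symm
  have hsq : ∀ g : R, g * g ∈ Subgroup.center R :=
    fun g => sq_central hRs.pGroup hRs.cyclic_of_characteristic hexp g
  have hpm : ∀ g ∈ Subgroup.center R, g * g = 1 →
      ((g : GL ι F) : M) = 1 ∨ ((g : GL ι F) : M) = -1 := by
    intro g hg hg2
    obtain ⟨c, hc⟩ := hsc g hg
    rw [hc]
    refine eq_one_or_neg_of_sq ?_
    rw [← hc, ← Units.val_mul, ← Subgroup.coe_mul, hg2]
    rfl
  have hcomm : ∀ g h : R, g * h * g⁻¹ * h⁻¹ ∈ Subgroup.center R := fun g h => by
    have e : g * h * g⁻¹ * h⁻¹ = (g * h) * (g * h) * ((h⁻¹ * g⁻¹ * h) * (h⁻¹ * g⁻¹ * h)) *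
        (h⁻¹ * h⁻¹) := by group
    rw [e]
    exact mul_mem (mul_mem (hsq _) (hsq _)) (hsq h⁻¹)
  refine ⟨fun s hs => ?_, fun s hs t ht => ?_, habs, ?_, inferInstance⟩
  · have := hpm _ (hsq ⟨s, hs⟩) (by
      rw [← pow_two, ← pow_two, ← pow_mul]
      exact hexp _)
    simpa using this
  · set g : R := ⟨s, hs⟩
    set h : R := ⟨t, ht⟩
    set c := g * h * g⁻¹ * h⁻¹ with hc
    have hcC : c ∈ Subgroup.center R := hc ▸ hcomm g h
    have h1 : g * h = c * (h * g) := by rw [hc]; group
    clear_value c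
    clear hc
    have hcc := Subgroup.mem_center_iff.mp hcC
    have h2 : c * c = 1 := by
      have h3 : g * g * h = h * (g * g) := (Subgroup.mem_center_iff.mp (hsq g) h).symm
      have h4 : g * g * h = c * c * (h * (g * g)) := by
        calc g * g * h = g * (g * h) := by group
          _ = (g * c) * (h * g) := by rw [h1]; group
          _ = c * (g * h) * g := by rw [hcc g]; group
          _ = c * c * (h * (g * g)) := by rw [h1]; group
      rw [h3] at h4
      exact mul_eq_right.mp h4.symm
    have h5 := congrArg (fun y : R => ((y : GL ι F) : M)) h1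
    simp only [Subgroup.coe_mul, Units.val_mul] at h5
    rcases hpm c hcC h2 with e | e <;> rw [e] at h5
    · exact Or.inl (by simpa [g, h] using h5)
    · exact Or.inr (by simpa [g, h] using h5)
  · haveI : Nontrivial (Subgroup.center R) := Finite.one_lt_card_iff_nontrivial.mp hZ
    obtain ⟨k, hk⟩ := (hRs.pGroup.to_subgroup (Subgroup.center R)).exists_card_eq
    have h2 : 2 ∣ Nat.card (Subgroup.center R) := by
      rw [hk]
      rcases k with _ | k
      · rw [hk, pow_zero] at hZ; omega
      · exact dvd_pow_self 2 (Nat.succ_ne_zero k)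
    obtain ⟨z, hz⟩ := exists_prime_orderOf_dvd_card' (G := Subgroup.center R) 2 h2
    have hz2 : z ≠ 1 ∧ z * z = 1 := by
      refine ⟨fun e => ?_, ?_⟩
      · rw [e, orderOf_one] at hz; omega
      · rw [← pow_two, ← hz, pow_orderOf_eq_one]
    rcases hpm z.1 z.2 (congrArg Subtype.val hz2.2) with e | e
    · exfalso
      exact hz2.1 (Subtype.ext (Subtype.ext (Units.ext e)))
    · have e' : ((z : R) : GL ι F) = -1 := Units.ext (by rw [e]; rfl)
      rw [← e']
      exact (z : R).2

namespace Pauli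

variable {R : Subgroup (GL ι F)} (hP : Pauli R)

theorem neg_mem (hP : Pauli R) {s : GL ι F} (hs : s ∈ R) : -s ∈ R := by
  simpa using mul_mem hP.negmem hs

theorem inv_eq (hP : Pauli R) {s : GL ι F} (hs : s ∈ R) : s⁻¹ = s ∨ s⁻¹ = -s := by
  rcases hP.sq s hs with h | h
  · exact Or.inl (inv_eq_of_mul_eq_one_right (Units.ext (by simpa using h)))
  · exact Or.inr (inv_eq_of_mul_eq_one_right (Units.ext (by simp [h])))

/-- A non-scalar member anticommutes with some member. -/
theorem exists_anti (hP : Pauli R) {s : GL ι F} (hs : s ∈ R) (hns : ¬ IsScal (s : M)) :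
    ∃ t ∈ R, (s : M) * t = -((t : M) * s) := by
  by_contra hno
  push Not at hno
  exact hns (hP.abs _ fun t ht => (hP.comm s hs t ht).resolve_right (hno t ht))

theorem trace_eq_zero (hP : Pauli R) (h2 : (2 : F) ≠ 0) {s : GL ι F} (hs : s ∈ R) (hns : ¬ IsScal (s : M)) :
    Matrix.trace (s : M) = 0 := by
  obtain ⟨t, -, ht⟩ := hP.exists_anti hs hns
  have h : ((t⁻¹ : GL ι F) : M) * ((s : M) * t) = -(s : M) := by
    rw [ht, mul_neg, ← mul_assoc, Units.inv_mul, one_mul]
  have h1 := congrArg Matrix.trace h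
  rw [Matrix.trace_mul_comm, mul_assoc, Units.mul_inv, mul_one, Matrix.trace_neg] at h1
  exact (mul_eq_zero.mp (show (2 : F) * Matrix.trace (s : M) = 0 by linear_combination h1)).resolve_left h2

/-- Right multiplication by `g` permutes the elements. -/
theorem sum_conj (hP : Pauli R) (X : M) (i : ι) :
    letI := @Fintype.ofFinite R hP.fin
    ∃ c : F, (∑ s : R, ((s : GL ι F) : M) * X * (((s : GL ι F)⁻¹ : GL ι F) : M)) = c • 1 ∧
      (Fintype.card ι : F) * c = (Nat.card R : F) * Matrix.trace X := by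
  letI := @Fintype.ofFinite R hP.fin
  set S := ∑ s : R, ((s : GL ι F) : M) * X * (((s : GL ι F)⁻¹ : GL ι F) : M) with hS
  obtain ⟨c, hc⟩ : IsScal S := by
    refine hP.abs S fun t ht => ?_
    rw [hS, Finset.sum_mul, Finset.mul_sum]
    refine (Fintype.sum_equiv (Equiv.mulLeft (⟨t, ht⟩ : R)) _ _ fun s => ?_).symm
    simp [mul_assoc]
  refine ⟨c, hc, ?_⟩
  have h1 : Matrix.trace S = (Nat.card R : F) * Matrix.trace X := by
    have e : ∀ s : R, Matrix.trace (((s : GL ι F) : M) * X * (((s : GL ι F)⁻¹ : GL ι F) : M)) = Matrix.trace X :=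
      fun s => by rw [Matrix.trace_mul_comm, ← mul_assoc, Units.inv_mul, one_mul]
    rw [hS, Matrix.trace_sum]
    simp only [e, Finset.sum_const, Finset.card_univ, nsmul_eq_mul, ← Nat.card_eq_fintype_card]
  rw [← h1, hc, Matrix.trace_smul, Matrix.trace_one, smul_eq_mul, mul_comm]

end Pauli

end Cfsg.Agent.Lib.SympFour
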