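import Mathlib

/-!
Extraspecial groups of order 32 of minus type, given by relations.
-/

set_option autoImplicit false

namespace Cfsg.Agent.Lib.SympFour

variable {G : Type*} [Group G]

/-- The relations of an extraspecial group of order 32 without elementary abelian subgroups of order 8. -/
structure Minus (G : Type*) [Group G] (z : G) : Prop where
  card : Nat.card G = 32
  central : ∀ g, z * g = g * z
  zz : z * z = 1
  ne : z ≠ 1
  sq : ∀ g : G, g * g = 1 ∨ g * g = z
  comm : ∀ g h : G, g * h = h * g ∨ g * h = z * (h * g)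
  centre : ∀ g : G, (∀ h, g * h = h * g) → g = 1 ∨ g = z
  minus : ∀ u v : G, u * u = 1 → v * v = 1 → u * v = v * u → (u = 1 ∨ u = z) ∨ (v = 1 ∨ v = z) ∨ v = u ∨ v = z * u

namespace Minus

variable {z : G} (hG : Minus G z)

theorem exists_anti (hG : Minus G z) {g : G} (hg : ¬ (g = 1 ∨ g = z)) : ∃ t, g * t = z * (t * g) := by
  by_contra hno
  push Not at hno
  exact hg (hG.centre g fun h => (hG.comm g h).resolve_right (hno h))

theorem ne_z_mul (hG : Minus G z) (g : G) : g ≠ z * g := fun h => hG.ne (mul_eq_right.mp h.symm)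

theorem anti_iff (hG : Minus G z) (g h : G) : g * h = z * (h * g) ↔ ¬ g * h = h * g :=
  ⟨fun h1 h2 => hG.ne_z_mul _ (h2.symm.trans h1), fun h1 => (hG.comm g h).resolve_left h1⟩

theorem anti_symm (hG : Minus G z) {g h : G} (e : g * h = z * (h * g)) : h * g = z * (g * h) := by
  rw [e, ← mul_assoc z z, hG.zz, one_mul]

theorem z_mul_sq (hG : Minus G z) (g : G) : z * g * (z * g) = g * g := by
  rw [mul_assoc, ← mul_assoc g z g, ← hG.central g, ← mul_assoc, ← mul_assoc, hG.zz, one_mul]

theorem mul_sq_of_comm {g h : G} (e : g * h = h * g) : g * h * (g * h) = g * g * (h * h) := by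
  rw [mul_assoc, ← mul_assoc h g h, ← e]; group

theorem mul_sq_of_anti (hG : Minus G z) {g h : G} (e : g * h = z * (h * g)) :
    g * h * (g * h) = z * (g * g * (h * h)) := by
  rw [mul_assoc g h, ← mul_assoc h g h, hG.anti_symm e]
  rw [← mul_assoc g, ← mul_assoc g z, ← hG.central g]
  group

variable [Finite G]

theorem half (P : G → Prop) {t : G} (ht : t * t = 1 ∨ t * t = z) (Q : G → Prop)
    (hPQ : ∀ x, P (t * x) ↔ Q x) : Nat.card {x // P x} = Nat.card {x // Q x} :=
  (Nat.card_congr ((Equiv.mulLeft t).subtypeEquiv fun x => (hPQ x).symm)).symm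

theorem card_comm (hG : Minus G z) {g : G} (hg : ¬ (g = 1 ∨ g = z)) :
    Nat.card {x // g * x = x * g} = 16 := by
  classical
  obtain ⟨t, ht⟩ := hG.exists_anti hg
  have key : ∀ x, g * (t * x) = t * x * g ↔ ¬ g * x = x * g := by
    intro x
    rw [← hG.anti_iff]
    constructor
    · intro h
      apply mul_left_cancel (a := t)
      calc t * (g * x) = (t * g) * x := by group
        _ = z * (g * t) * x := by rw [hG.anti_symm ht]
        _ = z * (g * (t * x)) := by group
        _ = z * (t * x * g) := by rw [h]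
        _ = t * (z * (x * g)) := by rw [← mul_assoc t, ← hG.central t]; group
    · intro h
      calc g * (t * x) = (g * t) * x := by group
        _ = z * (t * (g * x)) := by rw [ht]; group
        _ = z * (t * (z * (x * g))) := by rw [h]
        _ = z * z * (t * x * g) := by rw [← mul_assoc t z, ← hG.central t]; group
        _ = t * x * g := by rw [hG.zz, one_mul]
  have h1 := half (fun x => g * x = x * g) (hG.sq t) (fun x => ¬ g * x = x * g) key
  haveI := Fintype.ofFinite G
  have h2 := Fintype.card_subtype_compl (fun x : G => g * x = x * g)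
  simp only [← Nat.card_eq_fintype_card] at h2
  rw [← h1, hG.card] at h2
  have h3 : Nat.card {x // g * x = x * g} ≤ 32 := hG.card ▸ Finite.card_subtype_le _
  omega

theorem exists_nonscalar (hG : Minus G z) : ∃ s : G, ¬ (s = 1 ∨ s = z) := by
  by_contra hno
  push Not at hno
  have h : Nat.card G ≤ 2 := by
    rw [show 2 = Nat.card ({1, z} : Set G) by
      rw [Nat.card_coe_set_eq, Set.ncard_pair (Ne.symm hG.ne)]]
    exact Nat.card_le_card_of_injective (fun g => (⟨g, hno g⟩ : ({1, z} : Set G)))
      fun a b e => congrArg Subtype.val e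
  rw [hG.card] at h
  omega

theorem card_le_four {P : G → Prop} (a b c d : G) (h : ∀ x, P x → x = a ∨ x = b ∨ x = c ∨ x = d) :
    Nat.card {x // P x} ≤ 4 := by
  classical
  change Nat.card {x | P x} ≤ 4
  rw [Nat.card_coe_set_eq]
  refine (Set.ncard_le_ncard (t := (↑({a, b, c, d} : Finset G) : Set G)) (fun x hx => ?_)
    (Finset.finite_toSet _)).trans ?_
  · simpa using h x hx
  · rw [Set.ncard_coe_finset]; exact Finset.card_le_four

theorem exists_involution (hG : Minus G z) : ∃ u : G, ¬ (u = 1 ∨ u = z) ∧ u * u = 1 := by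
  by_contra hno
  simp only [not_exists, not_and] at hno
  obtain ⟨s, hs⟩ := hG.exists_nonscalar
  have hss : s * s = z := (hG.sq s).resolve_left fun h => hno s hs h
  have h16 := hG.card_comm hs
  have : Nat.card {x // s * x = x * s} ≤ 4 := by
    refine card_le_four 1 z s (z * s) fun x hx => ?_
    by_contra h4
    push Not at h4
    obtain ⟨x1, xz, xs, xzs⟩ := h4
    have hxx : x * x = z := (hG.sq x).resolve_left fun h => hno x (by tauto) h
    have h5 : s * x * (s * x) = 1 := by rw [mul_sq_of_comm hx, hss, hxx, hG.zz]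
    by_cases e1 : s * x = 1
    · refine xzs ?_
      have := eq_inv_of_mul_eq_one_right e1
      rw [this]
      exact (inv_eq_of_mul_eq_one_right (by rw [← mul_assoc, ← hG.central s, mul_assoc, hss, hG.zz]))
    · by_cases e2 : s * x = z
      · exact xs (mul_left_cancel (e2.trans hss.symm))
      · exact hno _ (by tauto) h5
  omega

/-- A standard generating frame. -/
theorem exists_frame (hG : Minus G z) : ∃ i j u v : G, u * u = 1 ∧ v * v = 1 ∧ i * i = z ∧ j * j = z ∧
    u * v = z * (v * u) ∧ i * j = z * (j * i) ∧ i * u = u * i ∧ i * v = v * i ∧ j * u = u * j ∧ j * v = v * j ∧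
    ∀ x, x ∈ Subgroup.closure ({z, i, j, u, v} : Set G) := by
  classical
  obtain ⟨u, hu, huu⟩ := hG.exists_involution
  obtain ⟨v, hvv, huv⟩ : ∃ v, v * v = 1 ∧ u * v = z * (v * u) := by
    obtain ⟨t, ht⟩ := hG.exists_anti hu
    rcases hG.sq t with h | h
    · exact ⟨t, h, ht⟩
    · refine ⟨u * t, by rw [hG.mul_sq_of_anti ht, huu, h, one_mul, hG.zz], ?_⟩
      calc u * (u * t) = t := by rw [← mul_assoc, huu, one_mul]
        _ = z * z * (t * (u * u)) := by rw [hG.zz, huu, one_mul, mul_one]
        _ = z * (z * (t * u) * u) := by group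
        _ = z * (u * t * u) := by rw [← ht]
  have hu16 := hG.card_comm hu
  have key : ∀ x, (u * (u * x) = u * x * u ∧ v * (u * x) = u * x * v) ↔
      (u * x = x * u ∧ ¬ v * x = x * v) := by
    intro x
    rw [← hG.anti_iff]
    have e1 : u * (u * x) = u * x * u ↔ u * x = x * u := by
      rw [mul_assoc u x u]; exact mul_right_inj u
    rw [e1]
    refine and_congr_right fun _ => ?_
    constructor
    · intro h
      apply mul_left_cancel (a := u)
      calc u * (v * x) = z * (v * u) * x := by rw [← huv]; group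
        _ = z * (v * (u * x)) := by group
        _ = z * (u * x * v) := by rw [h]
        _ = u * (z * (x * v)) := by rw [← mul_assoc u z, ← hG.central u]; group
    · intro h
      calc v * (u * x) = (v * u) * x := by group
        _ = z * (u * v) * x := by rw [hG.anti_symm huv]
        _ = z * (u * (v * x)) := by group
        _ = z * (u * (z * (x * v))) := by rw [h]
        _ = z * z * (u * x * v) := by rw [← mul_assoc u z, ← hG.central u]; group
        _ = u * x * v := by rw [hG.zz, one_mul]
  have h8 : Nat.card {x // u * x = x * u ∧ v * x = x * v} = 8 := by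
    have h1 := half (fun x => u * x = x * u ∧ v * x = x * v) (hG.sq u) (fun x => u * x = x * u ∧ ¬ v * x = x * v) key
    haveI := Fintype.ofFinite G
    have h2 : Nat.card {x // u * x = x * u} = Nat.card {x // u * x = x * u ∧ v * x = x * v} +
        Nat.card {x // u * x = x * u ∧ ¬ v * x = x * v} := by
      rw [← Nat.card_sum]
      refine Nat.card_congr (Equiv.ofBijective (fun a => if h : v * a.1 = a.1 * v then Sum.inl ⟨a.1, a.2, h⟩
        else Sum.inr ⟨a.1, a.2, h⟩) ⟨?_, ?_⟩)
      · intro a b e
        by_cases ha : v * a.1 = a.1 * v <;> by_cases hb : v * b.1 = b.1 * v <;> simp [ha, hb] at e <;>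
          exact Subtype.ext e
      · rintro (⟨a, h, h'⟩ | ⟨a, h, h'⟩)
        · exact ⟨⟨a, h⟩, by simp [h']⟩
        · exact ⟨⟨a, h⟩, by simp [h']⟩
    omega
  have hCsq : ∀ x, u * x = x * u → v * x = x * v → ¬ (x = 1 ∨ x = z) → x * x = z := by
    intro x hxu hxv hx
    refine (hG.sq x).resolve_left fun h => ?_
    rcases hG.minus u x huu h hxu with e | e | rfl | rfl
    · exact hu e
    · exact hx e
    · exact (hG.anti_iff x v).mp huv hxv.symm
    · refine (hG.anti_iff u v).mp huv (mul_left_cancel (a := z) ?_)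
      rw [← mul_assoc, ← hxv, ← mul_assoc v z u, ← hG.central v, mul_assoc]
  obtain ⟨i, ⟨hiu, hiv⟩, hi⟩ : ∃ i, (u * i = i * u ∧ v * i = i * v) ∧ ¬ (i = 1 ∨ i = z) := by
    by_contra hno
    push Not at hno
    have := card_le_four (P := fun x => u * x = x * u ∧ v * x = x * v) 1 z 1 z
      fun x hx => (hno x hx).imp_right Or.inl
    omega
  have hii := hCsq i hiu hiv hi
  obtain ⟨j, ⟨hju, hjv⟩, hj⟩ :
      ∃ j, (u * j = j * u ∧ v * j = j * v) ∧ ¬ (j = 1 ∨ j = z ∨ j = i ∨ j = z * i) := by
    by_contra hno
    push Not at hno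
    have := card_le_four (P := fun x => u * x = x * u ∧ v * x = x * v) 1 z i (z * i) hno
    omega
  push Not at hj
  obtain ⟨j1, jz, ji, jzi⟩ := hj
  have hjj := hCsq j hju hjv (by tauto)
  have hcommC : ∀ x, u * x = x * u → v * x = x * v → i * x = x * i → x = 1 ∨ x = z ∨ x = i ∨ x = z * i := by
    intro x hxu hxv hxi
    by_contra h4
    push Not at h4
    obtain ⟨x1, xz, xi, xzi⟩ := h4
    have hxx := hCsq x hxu hxv (by tauto)
    have h5 : i * x * (i * x) = 1 := by rw [mul_sq_of_comm hxi, hii, hxx, hG.zz]
    have hu' : u * (i * x) = i * x * u := by rw [← mul_assoc, hiu, mul_assoc, hxu, mul_assoc]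
    have hv' : v * (i * x) = i * x * v := by rw [← mul_assoc, hiv, mul_assoc, hxv, mul_assoc]
    have h6 : i * x = 1 ∨ i * x = z := by
      by_contra h7
      exact hG.ne ((hCsq _ hu' hv' h7).symm.trans h5)
    rcases h6 with e | e
    · refine xzi ?_
      rw [eq_inv_of_mul_eq_one_right e]
      exact inv_eq_of_mul_eq_one_right (by rw [← mul_assoc, ← hG.central i, mul_assoc, hii, hG.zz])
    · exact xi (mul_left_cancel (e.trans hii.symm))
  have hij : i * j = z * (j * i) := (hG.anti_iff i j).mpr fun h => by
    rcases hcommC j hju hjv h with e | e | e | e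
    exacts [j1 e, jz e, ji e, jzi e]
  refine ⟨i, j, u, v, huu, hvv, hii, hjj, huv, hij, hiu.symm, hiv.symm, hju.symm, hjv.symm, fun x => ?_⟩
  set H := Subgroup.closure ({z, i, j, u, v} : Set G) with hH
  have mz : z ∈ H := Subgroup.subset_closure (by simp)
  have mi : i ∈ H := Subgroup.subset_closure (by simp)
  have mj : j ∈ H := Subgroup.subset_closure (by simp)
  have mu : u ∈ H := Subgroup.subset_closure (by simp)
  have mv : v ∈ H := Subgroup.subset_closure (by simp)
  -- kill the four signs one after another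
  have flip : ∀ a b y : G, a * b = z * (b * a) → a * y = z * (y * a) → a * (b * y) = b * y * a := by
    intro a b y h1 h2
    calc a * (b * y) = (a * b) * y := by group
      _ = z * (b * (a * y)) := by rw [h1]; group
      _ = z * (b * (z * (y * a))) := by rw [h2]
      _ = z * z * (b * y * a) := by rw [← mul_assoc b z, ← hG.central b]; group
      _ = b * y * a := by rw [hG.zz, one_mul]
  have keep : ∀ a b y : G, a * b = b * a → a * y = y * a → a * (b * y) = b * y * a := by
    intro a b y h1 h2
    rw [← mul_assoc, h1, mul_assoc, h2, mul_assoc]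
  have step : ∀ (a b : G) (P : G → Prop), b ∈ H → a * b = z * (b * a) → (∀ y, P y → P (b * y)) →
      ∀ y, P y → ∃ y', (y' ∈ H → y ∈ H) ∧ P y' ∧ a * y' = y' * a := by
    intro a b P hb hab hP y hy
    rcases hG.comm a y with h | h
    · exact ⟨y, id, hy, h⟩
    · exact ⟨b * y, fun hm => (H.mul_mem_cancel_left hb).mp hm, hP y hy, flip a b y hab h⟩
  obtain ⟨x1, hx1, -, c1⟩ := step u v (fun _ => True) mv huv (fun _ h => h) x trivial
  obtain ⟨x2, hx2, c1', c2⟩ := step v u (fun y => u * y = y * u) mu (hG.anti_symm huv)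
    (fun y h => keep u u y rfl h) x1 c1
  obtain ⟨x3, hx3, ⟨c1'', c2'⟩, c3⟩ := step i j (fun y => u * y = y * u ∧ v * y = y * v) mj hij
    (fun y h => ⟨keep u j y hju h.1, keep v j y hjv h.2⟩) x2 ⟨c1', c2⟩
  apply hx1
  apply hx2
  apply hx3
  rcases hcommC x3 c1'' c2' c3 with rfl | rfl | rfl | rfl
  exacts [one_mem _, mz, mi, mul_mem mz mi]

theorem card_sq_one (hG : Minus G z) : Nat.card {x : G // x * x = 1} = 12 := by
  classical
  haveI := Fintype.ofFinite G
  obtain ⟨u, hu, huu⟩ := hG.exists_involution
  have h16 := hG.card_comm hu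
  have hin : Nat.card {x // u * x = x * u ∧ x * x = 1} = 4 := by
    change Nat.card {x | u * x = x * u ∧ x * x = 1} = 4
    rw [Nat.card_coe_set_eq]
    have e : {x : G | u * x = x * u ∧ x * x = 1} = (↑({1, z, u, z * u} : Finset G) : Set G) := by
      ext x
      simp only [Set.mem_setOf_eq, Finset.coe_insert, Finset.coe_singleton, Set.mem_insert_iff,
        Set.mem_singleton_iff]
      constructor
      · rintro ⟨h1, h2⟩
        have := hG.minus u x huu h2 h1
        tauto
      · rintro (rfl | rfl | rfl | rfl)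
        · simp
        · exact ⟨(hG.central u).symm, hG.zz⟩
        · exact ⟨rfl, huu⟩
        · exact ⟨by rw [← mul_assoc, ← hG.central u, mul_assoc], by rw [hG.z_mul_sq, huu]⟩
    rw [e, Set.ncard_coe_finset]
    push Not at hu
    obtain ⟨u1, uz⟩ := hu
    have n1 : z * u ≠ 1 := fun e => uz (by
      rw [eq_inv_of_mul_eq_one_right e]; exact inv_eq_of_mul_eq_one_right hG.zz)
    have n2 : z * u ≠ z := fun e => u1 (mul_eq_left.mp e)
    simp [Ne.symm hG.ne, Ne.symm u1, Ne.symm uz, Ne.symm n1, Ne.symm n2, hG.ne_z_mul u]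
  have key : ∀ x, (¬ u * (u * x) = u * x * u ∧ u * x * (u * x) = 1) ↔
      (¬ u * x = x * u ∧ ¬ x * x = 1) := by
    intro x
    have e1 : u * (u * x) = u * x * u ↔ u * x = x * u := by
      rw [mul_assoc u x u]; exact mul_right_inj u
    rw [e1]
    refine and_congr_right fun h => ?_
    rw [hG.mul_sq_of_anti ((hG.anti_iff u x).mpr h), huu, one_mul]
    rcases hG.sq x with e | e <;> rw [e] <;> simp [hG.ne, hG.zz]
  have h1 := half (fun x => ¬ u * x = x * u ∧ x * x = 1) (hG.sq u) (fun x => ¬ u * x = x * u ∧ ¬ x * x = 1) key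
  simp only [Nat.card_eq_fintype_card, Fintype.card_subtype] at h1 h16 hin ⊢
  have hc := hG.card
  rw [Nat.card_eq_fintype_card, ← Finset.card_univ] at hc
  have a1 := Finset.card_filter_add_card_filter_not (s := (Finset.univ : Finset G)) (fun x => u * x = x * u)
  have a2 := Finset.card_filter_add_card_filter_not
    (s := (Finset.univ : Finset G).filter (fun x => ¬ u * x = x * u)) (fun x => x * x = 1)
  have a3 := Finset.card_filter_add_card_filter_not
    (s := (Finset.univ : Finset G).filter (fun x => x * x = 1)) (fun x => u * x = x * u)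
  simp only [Finset.filter_filter] at a2 a3
  have e4 : (Finset.univ.filter fun x : G => x * x = 1 ∧ u * x = x * u) =
      Finset.univ.filter fun x : G => u * x = x * u ∧ x * x = 1 := by simp [and_comm]
  have e5 : (Finset.univ.filter fun x : G => x * x = 1 ∧ ¬ u * x = x * u) =
      Finset.univ.filter fun x : G => ¬ u * x = x * u ∧ x * x = 1 := by simp [and_comm]
  rw [e4, e5] at a3
  omega

end Minus

end Cfsg.Agent.Lib.SympFour
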