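import Cfsg.Agent.Lib.SympFour.Normalizer
import Cfsg.Agent.Lib.SympFour.Minus
import Mathlib

/-!
Groups of symplectic type of order 64 with centre of order 4.
-/

set_option autoImplicit false

namespace Cfsg.Agent.Lib.SympFour

variable {G : Type*} [Group G]

/-- The relations of the central product of a cyclic group of order four with an extraspecial group of order 32. -/
structure Four (G : Type*) [Group G] (z w : G) : Prop where
  card : Nat.card G = 64
  central : ∀ g, w * g = g * w
  ww : w * w = z
  zz : z * z = 1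
  ne : z ≠ 1
  sq : ∀ g : G, g * g = 1 ∨ g * g = z
  comm : ∀ g h : G, g * h = h * g ∨ g * h = z * (h * g)
  centre : ∀ g : G, (∀ h, g * h = h * g) ↔ g = 1 ∨ g = z ∨ g = w ∨ g = z * w

namespace Four

variable {z w : G}

theorem zc (hG : Four G z w) (g : G) : z * g = g * z := by
  rw [← hG.ww, mul_assoc, hG.central g, ← mul_assoc, hG.central g, mul_assoc]

theorem anti_iff (hG : Four G z w) (g h : G) : g * h = z * (h * g) ↔ ¬ g * h = h * g :=
  ⟨fun h1 h2 => hG.ne (mul_eq_right.mp (h1.symm.trans h2)), fun h1 => (hG.comm g h).resolve_left h1⟩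

theorem exists_anti (hG : Four G z w) {g : G} (hg : ¬ ∀ h, g * h = h * g) : ∃ t, g * t = z * (t * g) := by
  push Not at hg
  obtain ⟨t, ht⟩ := hg
  exact ⟨t, (hG.anti_iff g t).mpr ht⟩

theorem anti_symm (hG : Four G z w) {g h : G} (e : g * h = z * (h * g)) : h * g = z * (g * h) := by
  rw [e, ← mul_assoc z z, hG.zz, one_mul]

theorem flip (hG : Four G z w) {a b y : G} (h1 : a * b = z * (b * a)) (h2 : a * y = z * (y * a)) :
    a * (b * y) = b * y * a := by
  calc a * (b * y) = (a * b) * y := by group
    _ = z * (b * (a * y)) := by rw [h1]; group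
    _ = z * (b * (z * (y * a))) := by rw [h2]
    _ = z * z * (b * y * a) := by rw [← mul_assoc b z, ← hG.zc b]; group
    _ = b * y * a := by rw [hG.zz, one_mul]

theorem keep {a b y : G} (h1 : a * b = b * a) (h2 : a * y = y * a) : a * (b * y) = b * y * a := by
  rw [← mul_assoc, h1, mul_assoc, h2, mul_assoc]

theorem anti_keep (hG : Four G z w) {a b y : G} (h1 : a * b = b * a) (h2 : a * y = z * (y * a)) :
    a * (b * y) = z * (b * y * a) := by
  rw [← mul_assoc, h1, mul_assoc, h2, ← mul_assoc b z, ← hG.zc b]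
  group

theorem kill (hG : Four G z w) {a b : G} (hab : a * b = z * (b * a)) (y : G) :
    a * y = y * a ∨ a * (b * y) = b * y * a :=
  (hG.comm a y).imp id (hG.flip hab)

/-- The square of an element can be prescribed up to a central factor. -/
theorem adjust (hG : Four G z w) (g : G) (s : Bool) :
    ∃ g', (g' = g ∨ g' = w * g) ∧ g' * g' = if s then 1 else z := by
  have hw : w * g * (w * g) = z * (g * g) := by
    rw [Minus.mul_sq_of_comm (hG.central g), hG.ww]
  rcases hG.sq g with h | h
  · cases s
    · exact ⟨_, Or.inr rfl, by simp [hw, h]⟩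
    · exact ⟨_, Or.inl rfl, by simp [h]⟩
  · cases s
    · exact ⟨_, Or.inl rfl, by simp [h]⟩
    · exact ⟨_, Or.inr rfl, by simp [hw, h, hG.zz]⟩

variable [Finite G]

theorem halve (hG : Four G z w) (P : G → Prop) {a t : G} (hat : a * t = z * (t * a))
    (hP : ∀ x, P (t * x) ↔ P x) :
    2 * Nat.card {x // P x ∧ a * x = x * a} = Nat.card {x // P x} := by
  classical
  have key : ∀ x, (P (t * x) ∧ a * (t * x) = t * x * a) ↔ (P x ∧ ¬ a * x = x * a) := by
    intro x
    rw [hP, ← hG.anti_iff]
    refine and_congr_right fun _ => ⟨fun h => ?_, fun h => hG.flip hat h⟩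
    refine (hG.anti_iff a x).mpr fun h' => ?_
    exact (hG.anti_iff a (t * x)).mp (by
      calc a * (t * x) = (a * t) * x := by group
        _ = z * (t * (a * x)) := by rw [hat]; group
        _ = z * (t * x * a) := by rw [h']; group) h
  have h1 : Nat.card {x // P x ∧ a * x = x * a} = Nat.card {x // P x ∧ ¬ a * x = x * a} :=
    (Nat.card_congr ((Equiv.mulLeft t).subtypeEquiv fun x => (key x).symm)).symm
  have h2 : Nat.card {x // P x} = Nat.card {x // P x ∧ a * x = x * a} + Nat.card {x // P x ∧ ¬ a * x = x * a} := by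
    haveI := Fintype.ofFinite G
    simp only [Nat.card_eq_fintype_card, Fintype.card_subtype]
    rw [← Finset.card_filter_add_card_filter_not (s := Finset.univ.filter P) (fun x => a * x = x * a)]
    simp only [Finset.filter_filter]
  omega

theorem card_all (hG : Four G z w) : Nat.card {_x : G // True} = 64 :=
  (Nat.card_congr (Equiv.subtypeUnivEquiv fun _ => trivial)).trans hG.card

theorem card_comm (hG : Four G z w) {g : G} (hg : ¬ ∀ h, g * h = h * g) :
    Nat.card {x // g * x = x * g} = 32 := by
  obtain ⟨t, ht⟩ := hG.exists_anti hg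
  have h := hG.halve (fun _ => True) ht (fun _ => Iff.rfl)
  rw [hG.card_all, Nat.card_congr (Equiv.subtypeEquivRight (fun x : G => iff_of_eq (true_and (g * x = x * g))))] at h
  omega

/-- A standard generating frame. -/
theorem exists_frame (hG : Four G z w) : ∃ i j u v : G, u * u = 1 ∧ v * v = 1 ∧ i * i = z ∧ j * j = z ∧
    u * v = z * (v * u) ∧ i * j = z * (j * i) ∧ i * u = u * i ∧ i * v = v * i ∧ j * u = u * j ∧ j * v = v * j ∧
    ∀ x, x ∈ Subgroup.closure ({z, w, i, j, u, v} : Set G) := by
  classical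
  have w_anti : ∀ {a b a' : G}, a * b = z * (b * a) → (a' = a ∨ a' = w * a) → a' * b = z * (b * a') := by
    rintro a b a' h (rfl | rfl)
    · exact h
    · rw [mul_assoc, h, ← mul_assoc w z, ← hG.zc w, mul_assoc, ← mul_assoc w b, hG.central b, mul_assoc b w]
  have w_comm : ∀ {a b a' : G}, a * b = b * a → (a' = a ∨ a' = w * a) → a' * b = b * a' := by
    rintro a b a' h (rfl | rfl)
    · exact h
    · rw [mul_assoc, h, ← mul_assoc, hG.central b, mul_assoc]
  have few : ∀ P : G → Prop, (∀ x, P x → ∀ h, x * h = h * x) → Nat.card {x // P x} ≤ 4 := fun P hP =>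
    Minus.card_le_four 1 z w (z * w) fun x hx => (hG.centre x).mp (hP x hx)
  obtain ⟨u0, hu0⟩ : ∃ u0 : G, ¬ ∀ h, u0 * h = h * u0 := by
    by_contra hno
    push Not at hno
    have := few (fun _ => True) fun x _ => hno x
    rw [hG.card_all] at this
    omega
  obtain ⟨v0, huv0⟩ := hG.exists_anti hu0
  obtain ⟨u, hu, huu⟩ := hG.adjust u0 true
  obtain ⟨v, hv, hvv⟩ := hG.adjust v0 true
  simp only [if_true] at huu hvv
  have huv : u * v = z * (v * u) :=
    hG.anti_symm (w_anti (hG.anti_symm (w_anti huv0 hu)) hv)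
  let C : G → Prop := fun x => u * x = x * u ∧ v * x = x * v
  have h16 : Nat.card {x // C x} = 16 := by
    have h := hG.halve (fun x => u * x = x * u) (hG.anti_symm huv) (fun x => by
      rw [mul_assoc u x u]; exact mul_right_inj u)
    rw [hG.card_comm (fun h => (hG.anti_iff u v).mp huv (h v))] at h
    change Nat.card {x // u * x = x * u ∧ v * x = x * v} = 16
    omega
  obtain ⟨i0, hi0C, hi0⟩ : ∃ i0, C i0 ∧ ¬ ∀ h, i0 * h = h * i0 := by
    by_contra hno
    push Not at hno
    have := few C hno
    omega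
  obtain ⟨t, ht⟩ := hG.exists_anti hi0
  obtain ⟨t1, ht1, htu⟩ : ∃ t1, i0 * t1 = z * (t1 * i0) ∧ u * t1 = t1 * u := by
    rcases hG.kill huv t with h | h
    · exact ⟨t, ht, h⟩
    · exact ⟨v * t, hG.anti_keep hi0C.2.symm ht, h⟩
  obtain ⟨j0, hj0, hj0u, hj0v⟩ : ∃ t2, i0 * t2 = z * (t2 * i0) ∧ u * t2 = t2 * u ∧ v * t2 = t2 * v := by
    rcases hG.kill (hG.anti_symm huv) t1 with h | h
    · exact ⟨t1, ht1, htu, h⟩
    · exact ⟨u * t1, hG.anti_keep hi0C.1.symm ht1, keep rfl htu, h⟩
  obtain ⟨i, hi, hii⟩ := hG.adjust i0 false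
  obtain ⟨j, hj, hjj⟩ := hG.adjust j0 false
  simp only [Bool.false_eq_true, if_false] at hii hjj
  have hiu := w_comm hi0C.1.symm hi
  have hiv := w_comm hi0C.2.symm hi
  have hju := w_comm hj0u.symm hj
  have hjv := w_comm hj0v.symm hj
  have hij : i * j = z * (j * i) := hG.anti_symm (w_anti (hG.anti_symm (w_anti hj0 hi)) hj)
  refine ⟨i, j, u, v, huu, hvv, hii, hjj, huv, hij, hiu, hiv, hju, hjv, fun x => ?_⟩
  -- the common centraliser is central
  have hK : ∀ y, C y → i * y = y * i → j * y = y * j → y = 1 ∨ y = z ∨ y = w ∨ y = z * w := by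
    intro y hy hyi hyj
    have hCj : ∀ x, C (j * x) ↔ C x := fun x => by
      simp only [C]
      rw [← mul_assoc u j x, ← hju, mul_assoc j u x, mul_assoc j x u, mul_right_inj,
        ← mul_assoc v j x, ← hjv, mul_assoc j v x, mul_assoc j x v, mul_right_inj]
    have h8 := hG.halve C hij hCj
    have hCi : ∀ x, (C (i * x) ∧ i * (i * x) = i * x * i) ↔ (C x ∧ i * x = x * i) := fun x => by
      simp only [C]
      rw [← mul_assoc u i x, ← hiu, mul_assoc i u x, mul_assoc i x u, mul_right_inj,
        ← mul_assoc v i x, ← hiv, mul_assoc i v x, mul_assoc i x v, mul_right_inj, mul_assoc i x i, mul_right_inj]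
    have h4 := hG.halve (fun x => C x ∧ i * x = x * i) (hG.anti_symm hij) hCi
    by_contra hno
    have hcc : ∀ g, g = 1 ∨ g = z ∨ g = w ∨ g = z * w → (C g ∧ i * g = g * i) ∧ j * g = g * j := fun g hg =>
      have hh := (hG.centre g).mpr hg
      ⟨⟨⟨(hh u).symm, (hh v).symm⟩, (hh i).symm⟩, (hh j).symm⟩
    have hw1 : w ≠ 1 := fun e => hG.ne (by rw [← hG.ww, e, one_mul])
    have hwz : w ≠ z := fun e => hG.ne (by
      have h' := hG.ww; rw [e, hG.zz] at h'; exact h'.symm)
    have hzw1 : z * w ≠ 1 := fun e => hwz (by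
      rw [eq_inv_of_mul_eq_one_right e]; exact inv_eq_of_mul_eq_one_right hG.zz)
    have hzwz : z * w ≠ z := fun e => hw1 (mul_eq_left.mp e)
    have hzww : z * w ≠ w := fun e => hG.ne (mul_eq_right.mp e)
    push Not at hno
    have h5 : ({1, z, w, z * w, y} : Finset G).card ≤ Nat.card {x // (C x ∧ i * x = x * i) ∧ j * x = x * j} := by
      rw [← Nat.card_eq_finsetCard]
      refine Nat.card_le_card_of_injective (fun a => ⟨a.1, ?_⟩) fun a b e => Subtype.ext (congrArg Subtype.val e :)
      have := a.2
      simp only [Finset.mem_insert, Finset.mem_singleton] at this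
      rcases this with e | e | e | e | e
      all_goals first
        | (rw [e]; exact ⟨⟨hy, hyi⟩, hyj⟩)
        | exact hcc a.1 (by tauto)
    rw [show ({1, z, w, z * w, y} : Finset G).card = 5 by
      simp [Ne.symm hG.ne, Ne.symm hw1, Ne.symm hwz, Ne.symm hzw1, Ne.symm hzwz, Ne.symm hzww, Ne.symm hno.1,
        Ne.symm hno.2.1, Ne.symm hno.2.2.1, Ne.symm hno.2.2.2]] at h5
    omega
  set H := Subgroup.closure ({z, w, i, j, u, v} : Set G) with hH
  have mz : z ∈ H := Subgroup.subset_closure (by simp)
  have mw : w ∈ H := Subgroup.subset_closure (by simp)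
  have mi : i ∈ H := Subgroup.subset_closure (by simp)
  have mj : j ∈ H := Subgroup.subset_closure (by simp)
  have mu : u ∈ H := Subgroup.subset_closure (by simp)
  have mv : v ∈ H := Subgroup.subset_closure (by simp)
  have step : ∀ (a b : G) (P : G → Prop), b ∈ H → a * b = z * (b * a) → (∀ y, P y → P (b * y)) →
      ∀ y, P y → ∃ y', (y' ∈ H → y ∈ H) ∧ P y' ∧ a * y' = y' * a := by
    intro a b P hb hab hP y hy
    rcases hG.kill hab y with h | h
    · exact ⟨y, id, hy, h⟩
    · exact ⟨b * y, fun hm => (H.mul_mem_cancel_left hb).mp hm, hP y hy, h⟩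
  obtain ⟨x1, hx1, -, c1⟩ := step u v (fun _ => True) mv huv (fun _ h => h) x trivial
  obtain ⟨x2, hx2, c1', c2⟩ := step v u (fun y => u * y = y * u) mu (hG.anti_symm huv)
    (fun y h => keep rfl h) x1 c1
  obtain ⟨x3, hx3, c12, c3⟩ := step i j C mj hij
    (fun y h => ⟨keep hju.symm h.1, keep hjv.symm h.2⟩) x2 ⟨c1', c2⟩
  obtain ⟨x4, hx4, ⟨c12', c3'⟩, c4⟩ := step j i (fun y => C y ∧ i * y = y * i) mi (hG.anti_symm hij)
    (fun y h => ⟨⟨keep hiu.symm h.1.1, keep hiv.symm h.1.2⟩, keep rfl h.2⟩) x3 ⟨c12, c3⟩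
  apply hx1
  apply hx2
  apply hx3
  apply hx4
  rcases hK x4 c12' c3' c4 with rfl | rfl | rfl | rfl
  exacts [one_mem _, mz, mw, mul_mem mz mw]

end Four

namespace Pauli

open Matrix

variable {ι : Type} [Fintype ι] [DecidableEq ι] [Nonempty ι] {F : Type*} [Field F]

local notation "M" => Matrix ι ι F

/-- The number of members commuting with an element of odd prime order of the normaliser. -/
theorem card_fixed_four {R : Subgroup (GL ι F)} (hP : Pauli R) {z w : R} (hz : (z : GL ι F) = -1)
    (hF : Four R z w) {g : GL ι F} (hg : g ∈ Cfsg.Geo.subgroupNormalizer R)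
    (hgns : ∀ c : F, (g : M) ≠ c • 1) {r : ℕ} [hr : Fact r.Prime] (hr2 : r ≠ 2) (hgr : g ^ r = 1) :
    (r = 3 ∧ (Nat.card {s : R // g * (s : GL ι F) = (s : GL ι F) * g} = 4 ∨
        Nat.card {s : R // g * (s : GL ι F) = (s : GL ι F) * g} = 16)) ∨
      (r = 5 ∧ Nat.card {s : R // g * (s : GL ι F) = (s : GL ι F) * g} = 4) := by
  classical
  haveI := hP.fin
  let C : Subgroup R := (Subgroup.centralizer ({g} : Set (GL ι F))).comap R.subtype
  have hC : ∀ s : R, s ∈ C ↔ g * (s : GL ι F) = (s : GL ι F) * g := fun s =>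
    Subgroup.mem_centralizer_singleton_iff.trans eq_comm
  have hcard : Nat.card {s : R // g * (s : GL ι F) = (s : GL ι F) * g} = Nat.card C :=
    (Nat.card_congr (Equiv.subtypeEquivRight hC)).symm
  rw [hcard]
  have hsc : ∀ s : R, (∀ h, s * h = h * s) → s ∈ C := by
    intro s hs
    rw [hC]
    obtain ⟨c, hc⟩ := hP.abs ((s : GL ι F) : M) fun t ht => by
      simpa using congrArg (fun x : R => ((x : GL ι F) : M)) (hs ⟨t, ht⟩)
    exact Units.ext (by simp [hc])
  have h4 : 4 ≤ Nat.card C := by
    have hw1 : w ≠ 1 := fun e => hF.ne (by rw [← hF.ww, e, one_mul])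
    have hwz : w ≠ z := fun e => hF.ne (by have h' := hF.ww; rw [e, hF.zz] at h'; exact h'.symm)
    have hzw1 : z * w ≠ 1 := fun e => hwz (by
      rw [eq_inv_of_mul_eq_one_right e]; exact inv_eq_of_mul_eq_one_right hF.zz)
    have hzwz : z * w ≠ z := fun e => hw1 (mul_eq_left.mp e)
    have hzww : z * w ≠ w := fun e => hF.ne (mul_eq_right.mp e)
    rw [show 4 = ({1, z, w, z * w} : Finset R).card by
      simp [Ne.symm hF.ne, Ne.symm hw1, Ne.symm hwz, Ne.symm hzw1, Ne.symm hzwz, Ne.symm hzww],
      ← Nat.card_eq_finsetCard]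
    refine Nat.card_le_card_of_injective (fun a => ⟨a.1, hsc _ ((hF.centre a.1).mpr ?_)⟩)
      fun a b e => Subtype.ext (congrArg Subtype.val e :)
    have h' := a.2
    simp only [Finset.mem_insert, Finset.mem_singleton] at h'
    exact h'
  have h64 : Nat.card C ≠ 64 := by
    intro e
    have htop : C = ⊤ := Subgroup.eq_top_of_card_eq C (e.trans hF.card.symm)
    obtain ⟨c, hc⟩ := hP.abs (g : M) fun s hs => by
      simpa using congrArg (fun x : GL ι F => (x : M)) ((hC ⟨s, hs⟩).mp (htop ▸ Subgroup.mem_top _))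
    exact hgns c hc
  have h1 : Nat.card R ≡ Nat.card C [MOD r] := by
    have h := hP.card_fixed_modEq hg hgr (fun _ => True) (fun _ => Iff.rfl)
    simp only [true_and] at h
    rw [hcard, Nat.card_congr (Equiv.subtypeUnivEquiv (p := fun _ : R => True) fun _ => trivial)] at h
    exact h
  have hdvd : Nat.card C ∣ 2 ^ 6 := by
    rw [show 2 ^ 6 = Nat.card R by rw [hF.card]; rfl]
    exact Subgroup.card_subgroup_dvd_card C
  obtain ⟨k, hk, hk'⟩ := (Nat.dvd_prime_pow Nat.prime_two).mp hdvd
  have h8 : Nat.card C = 8 → r ∣ 32 - 8 := by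
    intro e
    obtain ⟨s, hsC, hs⟩ : ∃ s ∈ C, ¬ ∀ h, s * h = h * s := by
      by_contra hno
      push Not at hno
      have : Nat.card C ≤ 4 :=
        Minus.card_le_four (P := fun s : R => s ∈ C) 1 z w (z * w) fun x hx => (hF.centre x).mp (hno x hx)
      omega
    have hgs := (hC s).mp hsC
    have hconj : ∀ x : GL ι F, (s : GL ι F) * (g * x * g⁻¹) = g * x * g⁻¹ * s ↔ (s : GL ι F) * x = x * s := by
      intro x
      have e1 : (s : GL ι F) * (g * x * g⁻¹) = g * ((s : GL ι F) * x) * g⁻¹ := by
        rw [← mul_assoc, ← mul_assoc, ← hgs]; group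
      have e2 : g * x * g⁻¹ * (s : GL ι F) = g * (x * s) * g⁻¹ := by
        calc g * x * g⁻¹ * (s : GL ι F) = g * x * (g⁻¹ * ((s : GL ι F) * g)) * g⁻¹ := by group
          _ = g * x * (g⁻¹ * (g * s)) * g⁻¹ := by rw [hgs]
          _ = g * (x * s) * g⁻¹ := by group
      rw [e1, e2, mul_left_inj, mul_right_inj]
    have h := hP.card_fixed_modEq hg hgr (fun x => (s : GL ι F) * x = x * s) hconj
    have e32 : Nat.card {x : R // (s : GL ι F) * x = x * s} = 32 := by
      rw [← hF.card_comm hs]
      exact Nat.card_congr (Equiv.subtypeEquivRight fun x => by rw [Subtype.ext_iff]; rfl)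
    have e8 : Nat.card {x : R // (s : GL ι F) * x = x * s ∧ g * (x : GL ι F) = (x : GL ι F) * g} = 8 := by
      rw [← e, ← hcard]
      refine Nat.card_congr (Equiv.subtypeEquivRight fun x => ⟨fun h => h.2, fun h => ⟨?_, h⟩⟩)
      -- the fixed subgroup of order eight is abelian
      have hcz : ∀ a ∈ C, ∀ b ∈ C, a * b = b * a := by
        intro a ha b hb
        by_contra hne
        let A : Subgroup R := C
        have h16 : 16 ≤ Nat.card C := by
          have hzc : z ∈ C := hsc z fun h => hF.zc h
          have hwc : w ∈ C := hsc w hF.central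
          obtain ⟨cc, hcc⟩ : ∃ cc, cc = ({1, z, w, z * w} : Finset R) := ⟨_, rfl⟩
          let φ : {q : R // q ∈ cc} × Bool × Bool → C := fun q =>
            ⟨q.1.1 * (if q.2.1 then a else 1) * (if q.2.2 then b else 1), by
              refine mul_mem (mul_mem (hsc _ ((hF.centre _).mpr ?_)) ?_) ?_
              · have h' := q.1.2; simp only [hcc, Finset.mem_insert, Finset.mem_singleton] at h'; exact h'
              · split_ifs; exacts [ha, one_mem _]
              · split_ifs; exacts [hb, one_mem _]⟩
          have hinj : Function.Injective φ := by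
            rintro ⟨⟨q, hq⟩, s1, s2⟩ ⟨⟨q', hq'⟩, s1', s2'⟩ he
            have he' : q * (if s1 then a else 1) * (if s2 then b else 1) =
                q' * (if s1' then a else 1) * (if s2' then b else 1) := congrArg Subtype.val he
            simp only [hcc, Finset.mem_insert, Finset.mem_singleton] at hq hq'
            have hqc := (hF.centre q).mpr hq
            have hqc' := (hF.centre q').mpr hq'
            have key : ∀ {q q' : R}, (∀ h, q * h = h * q) → (∀ h, q' * h = h * q') → ∀ {x y : R},
                q * x = q' * y → ∀ c, (x * c = c * x ↔ y * c = c * y) := by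
              intro q q' hq hq' x y hxy c
              have : ∀ {q : R}, (∀ h, q * h = h * q) → ∀ x : R, (q * x * c = c * (q * x) ↔ x * c = c * x) :=
                fun {q} hq x => by rw [mul_assoc, ← mul_assoc c q x, ← hq c, mul_assoc q c x, mul_right_inj]
              rw [← this hq x, hxy, this hq' y]
            rw [mul_assoc, mul_assoc] at he'
            have k1 := key hqc hqc' he' a
            have k2 := key hqc hqc' he' b
            have hne' : ¬ b * a = a * b := fun e => hne e.symm
            have hba : ¬ a * b * a = a * (a * b) := fun e => hne' (mul_left_cancel (by rw [← mul_assoc]; exact e))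
            have hbb : ¬ a * b * b = b * (a * b) := fun e => hne (mul_right_cancel (e.trans (mul_assoc _ _ _).symm))
            cases s1 <;> cases s2 <;> cases s1' <;> cases s2' <;>
              first
              | (simp only [mul_one, one_mul, mul_left_inj, Bool.false_eq_true, if_true, if_false] at he'; subst he'; rfl)
              | (exfalso; simp [hne, hne', hba, hbb] at k1 k2)
          have := Nat.card_le_card_of_injective φ hinj
          have hw1 : w ≠ 1 := fun e => hF.ne (by rw [← hF.ww, e, one_mul])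
          have hwz : w ≠ z := fun e => hF.ne (by have h' := hF.ww; rw [e, hF.zz] at h'; exact h'.symm)
          have hzw1 : z * w ≠ 1 := fun e => hwz (by
            rw [eq_inv_of_mul_eq_one_right e]; exact inv_eq_of_mul_eq_one_right hF.zz)
          have hzwz : z * w ≠ z := fun e => hw1 (mul_eq_left.mp e)
          have hzww : z * w ≠ w := fun e => hF.ne (mul_eq_right.mp e)
          rw [Nat.card_prod, Nat.card_prod, Nat.card_eq_finsetCard, hcc,
            show ({1, z, w, z * w} : Finset R).card = 4 by
              simp [Ne.symm hF.ne, Ne.symm hw1, Ne.symm hwz, Ne.symm hzw1, Ne.symm hzwz, Ne.symm hzww]] at this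
          simpa using this
        omega
      exact congrArg Subtype.val (hcz s hsC x ((hC x).mpr h))
    rw [e32, e8] at h
    exact (Nat.modEq_iff_dvd' (by norm_num)).mp h.symm
  rw [hF.card] at h1
  have hr' := hr.out
  have h3 := hr'.two_le
  have hd1 : r ∣ 64 - Nat.card C :=
    (Nat.modEq_iff_dvd' (Nat.le_of_dvd (by norm_num) hdvd)).mp h1.symm
  rw [hk'] at h4 h64 hd1 h8 ⊢
  have hr60 : r ≤ 60 := by
    refine (Nat.le_of_dvd ?_ hd1).trans ?_
    · interval_cases k <;> omega
    · interval_cases k <;> omega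
  interval_cases k
  all_goals first
    | omega
    | (norm_num at hd1 h8 h4 h64 ⊢
       interval_cases r <;> first | omega | exact absurd hr' (by norm_num) | (norm_num at hd1 h8 ⊢ <;> omega))

end Pauli

end Cfsg.Agent.Lib.SympFour
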