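import Cfsg.Agent.Lib.SympFour.Normalizer
import Cfsg.Agent.Lib.SympFour.Minus
import Mathlib

/-!
An element of order five in the normaliser of a group of symplectic type of order `2 ^ 5`.
-/

set_option autoImplicit false

namespace Cfsg.Agent.Lib.SympFour

open Matrix

section Algebra

variable {A : Type*} [Ring A]

theorem one_add_comm {a b : A} (h : a * b = b * a) : (1 + a) * b = b * (1 + a) := by
  rw [add_mul, mul_add, one_mul, mul_one, h]

theorem one_add_anti {a b : A} (ha : a * a = -1) (h : a * b = -(b * a)) :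
    (1 + a) * b = (a * b) * (1 + a) := by
  rw [add_mul, mul_add, one_mul, mul_one]
  rw [show a * b * a = b from by rw [h, neg_mul, mul_assoc, ha, mul_neg, mul_one, neg_neg]]
  exact add_comm _ _

/-- The product of four reflections along a path permutes five elements cyclically. -/
theorem five_cycle {a b c d : A} (ha : a * a = -1) (hb : b * b = -1) (hc : c * c = -1) (hd : d * d = -1)
    (hab : a * b = -(b * a)) (hbc : b * c = -(c * b)) (hcd : c * d = -(d * c))
    (hac : a * c = c * a) (had : a * d = d * a) (hbd : b * d = d * b) :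
    let H := (1 + a) * (1 + b) * (1 + c) * (1 + d)
    H * a = b * H ∧ H * b = c * H ∧ H * c = d * H ∧ H * d = a * b * c * d * H ∧
      H * (a * b * c * d) = a * H := by
  intro H
  have hba : b * a = -(a * b) := by rw [hab, neg_neg]
  have hcb : c * b = -(b * c) := by rw [hbc, neg_neg]
  have hdc : d * c = -(c * d) := by rw [hcd, neg_neg]
  have step : ∀ {w x y z : A}, (1 + d) * w = x * (1 + d) → (1 + c) * x = y * (1 + c) → (1 + b) * y = z * (1 + b) →
      ∀ {o : A}, (1 + a) * z = o * (1 + a) → H * w = o * H := by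
    intro w x y z h1 h2 h3 o h4
    calc H * w = (1 + a) * (1 + b) * (1 + c) * ((1 + d) * w) := by simp only [H, mul_assoc]
      _ = (1 + a) * (1 + b) * ((1 + c) * x) * (1 + d) := by rw [h1]; simp only [mul_assoc]
      _ = (1 + a) * ((1 + b) * y) * (1 + c) * (1 + d) := by rw [h2]; simp only [mul_assoc]
      _ = ((1 + a) * z) * (1 + b) * (1 + c) * (1 + d) := by rw [h3]; simp only [mul_assoc]
      _ = o * H := by rw [h4]; simp only [H, mul_assoc]
  -- for anticommuting `x`, `y` with `x * x = -1`
  have mv : ∀ {x y : A}, x * x = -1 → y * x = -(x * y) → x * (y * x) = y ∧ y * x * x = -y := fun {x y} hx h => by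
    refine ⟨?_, by rw [mul_assoc, hx, mul_neg, mul_one]⟩
    rw [h, mul_neg, ← mul_assoc, hx, neg_mul, one_mul, neg_neg]
  obtain ⟨m1, m1'⟩ := mv ha hba
  obtain ⟨m2, m2'⟩ := mv hb hcb
  obtain ⟨m3, m3'⟩ := mv hc hdc
  have n1 : d * (a * b * c * d) = -(a * b * c * d * d) := by
    calc d * (a * b * c * d) = (d * a) * b * c * d := by simp only [mul_assoc]
      _ = a * (d * b) * c * d := by rw [← had]; simp only [mul_assoc]
      _ = a * b * (d * c) * d := by rw [← hbd]; simp only [mul_assoc]
      _ = -(a * b * c * d * d) := by rw [hdc]; simp only [mul_assoc, mul_neg, neg_mul]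
  have x1 : d * (a * b * c * d) = a * b * c := by rw [n1, mul_assoc _ d d, hd, mul_neg, mul_one, neg_neg]
  have n2 : c * (a * b * c) = -(a * b * c * c) := by
    calc c * (a * b * c) = (c * a) * b * c := by simp only [mul_assoc]
      _ = a * (c * b) * c := by rw [← hac]; simp only [mul_assoc]
      _ = -(a * b * c * c) := by rw [hcb]; simp only [mul_assoc, mul_neg, neg_mul]
  have x2 : c * (a * b * c) = a * b := by rw [n2, mul_assoc _ c c, hc, mul_neg, mul_one, neg_neg]
  have n3 : b * (a * b) = -(a * b * b) := by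
    rw [← mul_assoc, hba, neg_mul]
  have x3 : b * (a * b) = a := by rw [n3, mul_assoc _ b b, hb, mul_neg, mul_one, neg_neg]
  have n4 : b * (c * d) = -(c * d * b) := by
    rw [← mul_assoc, hbc, neg_mul, mul_assoc, hbd, mul_assoc]
  have n5 : a * (b * (c * d)) = -(b * (c * d) * a) := by
    calc a * (b * (c * d)) = (a * b) * c * d := by simp only [mul_assoc]
      _ = -(b * (a * c) * d) := by rw [hab]; simp only [mul_assoc, neg_mul]
      _ = -(b * c * (a * d)) := by rw [hac]; simp only [mul_assoc]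
      _ = -(b * (c * d) * a) := by rw [had]; simp only [mul_assoc]
  refine ⟨?_, ?_, ?_, ?_, ?_⟩
  · exact step (one_add_comm had.symm) (one_add_comm hac.symm) (one_add_anti hb hba)
      ((one_add_anti ha (by rw [m1, m1', neg_neg])).trans (by rw [m1]))
  · exact step (one_add_comm hbd.symm) (one_add_anti hc hcb)
      ((one_add_anti hb (by rw [m2, m2', neg_neg])).trans (by rw [m2])) (one_add_comm hac)
  · exact step (one_add_anti hd hdc) ((one_add_anti hc (by rw [m3, m3', neg_neg])).trans (by rw [m3]))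
      (one_add_comm hbd) (one_add_comm had)
  · exact step (one_add_comm rfl) (one_add_anti hc hcd) (one_add_anti hb n4)
      ((one_add_anti ha n5).trans (by simp only [mul_assoc]))
  · exact step ((one_add_anti hd n1).trans (by rw [x1])) ((one_add_anti hc n2).trans (by rw [x2]))
      ((one_add_anti hb n3).trans (by rw [x3])) (one_add_comm rfl)

end Algebra

section Matrices

variable {ι : Type} [Fintype ι] [DecidableEq ι] [Nonempty ι] {F : Type*} [Field F]

local notation "M" => Matrix ι ι F

/-- `1 + e` for `e` of square `-1`. -/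
noncomputable def onePlus (h2 : (2 : F) ≠ 0) (e : M) (he : e * e = -1) : GL ι F :=
  Matrix.GeneralLinearGroup.mkOfDetNeZero (1 + e) (Matrix.det_ne_zero_of_left_inverse (B := (2 : F)⁻¹ • (1 - e)) (by
    rw [smul_mul_assoc, sub_mul, one_mul, mul_add, mul_one, he,
      show 1 + e - (e + -1) = (2 : F) • (1 : M) by rw [two_smul]; abel, smul_smul, inv_mul_cancel₀ h2, one_smul]))

theorem onePlus_val (h2 : (2 : F) ≠ 0) (e : M) (he : e * e = -1) : (onePlus h2 e he : M) = 1 + e := rfl

theorem onePlus_mem {R : Subgroup (GL ι F)} (hP : Pauli R) (h2 : (2 : F) ≠ 0) {e : GL ι F} (he : e ∈ R)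
    (hee : (e : M) * e = -1) : onePlus h2 (e : M) hee ∈ Cfsg.Geo.subgroupNormalizer R := by
  haveI := hP.fin
  set h := onePlus h2 (e : M) hee with hh
  have h1 : ∀ s ∈ R, h * s * h⁻¹ ∈ R := by
    intro s hs
    rcases hP.comm e he s hs with hc | hc
    · have : h * s = s * h := Units.ext (by simpa [hh, onePlus_val] using one_add_comm hc)
      rwa [this, mul_inv_cancel_right]
    · have : h * s = (e * s) * h := Units.ext (by simpa [hh, onePlus_val] using one_add_anti hee hc)
      rw [this, mul_inv_cancel_right]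
      exact mul_mem he hs
  have hsurj : ∀ s ∈ R, ∃ a ∈ R, h * a * h⁻¹ = s := fun s hs => by
    obtain ⟨a, ha⟩ := (Finite.injective_iff_surjective (f := fun a : R => (⟨h * a * h⁻¹, h1 a a.2⟩ : R))).mp
      (fun a b e' => Subtype.ext (mul_left_cancel (mul_right_cancel (congrArg Subtype.val e')))) ⟨s, hs⟩
    exact ⟨a, a.2, congrArg Subtype.val ha⟩
  refine fun s => ⟨h1 s, fun hs => ?_⟩
  obtain ⟨a, ha, hae⟩ := hsurj _ hs
  rwa [← mul_left_cancel (mul_right_cancel hae)]

/-- A scalar element of the general linear group. -/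
noncomputable def scal {c : F} (hc : c ≠ 0) : GL ι F :=
  Matrix.GeneralLinearGroup.mkOfDetNeZero (c • 1) (by
    rw [Matrix.det_smul, Matrix.det_one, mul_one]; exact pow_ne_zero _ hc)

theorem scal_val {c : F} (hc : c ≠ 0) : (scal (ι := ι) hc : M) = c • 1 := rfl

theorem scal_mem_normalizer {c : F} (hc : c ≠ 0) (R : Subgroup (GL ι F)) :
    scal hc ∈ Cfsg.Geo.subgroupNormalizer R := by
  intro s
  have : scal hc * s * (scal hc)⁻¹ = s := by
    rw [mul_inv_eq_iff_eq_mul]
    exact Units.ext (by simp [scal_val])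
  rw [this]

/-- A frame gives an element of the normaliser moving a member, whose fifth power is scalar. -/
theorem exists_five {R : Subgroup (GL ι F)} (hP : Pauli R) (h2 : (2 : F) ≠ 0) {i j u v : GL ι F}
    (hi : i ∈ R) (hj : j ∈ R) (hu : u ∈ R) (hv : v ∈ R)
    (huu : (u : M) * u = 1) (hvv : (v : M) * v = 1) (hii : (i : M) * i = -1) (hjj : (j : M) * j = -1)
    (huv : (u : M) * v = -((v : M) * u)) (hij : (i : M) * j = -((j : M) * i))
    (hiu : (i : M) * u = u * i) (hiv : (i : M) * v = v * i) (hju : (j : M) * u = u * j) (hjv : (j : M) * v = v * j)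
    (hgen : ∀ X : M, X * i = i * X → X * j = j * X → X * u = u * X → X * v = v * X → IsScal X) :
    ∃ (g : GL ι F) (a b c d : GL ι F) (h4 : (4 : F)⁻¹ ≠ 0) (ha : (a : M) * a = -1) (hb : (b : M) * b = -1)
      (hc : (c : M) * c = -1) (hd : (d : M) * d = -1), a ∈ R ∧ b ∈ R ∧ c ∈ R ∧ d ∈ R ∧
      g = scal h4 * onePlus h2 (a : M) ha * onePlus h2 (b : M) hb * onePlus h2 (c : M) hc * onePlus h2 (d : M) hd ∧
      g ∈ Cfsg.Geo.subgroupNormalizer R ∧ g * a ≠ a * g ∧ IsScal ((g ^ 5 : GL ι F) : M) := by
  have hc' : ((i * u : GL ι F) : M) * ((i * u : GL ι F) : M) = -1 := by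
    rw [Units.val_mul, mul_assoc, ← mul_assoc (u : M), ← hiu, mul_assoc, huu, mul_one, hii]
  have hd' : ((u * v : GL ι F) : M) * ((u * v : GL ι F) : M) = -1 := by
    rw [Units.val_mul, mul_assoc, ← mul_assoc (v : M)]
    rw [show (v : M) * u = -((u : M) * v) by rw [huv, neg_neg], neg_mul, mul_assoc, hvv, mul_one, mul_neg, huu]
  have hbc : (j : M) * (i * u : GL ι F) = -(((i * u : GL ι F) : M) * j) := by
    rw [Units.val_mul, ← mul_assoc, show (j : M) * i = -((i : M) * j) by rw [hij, neg_neg], neg_mul,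
      mul_assoc, hju, mul_assoc]
  have hac : (i : M) * (i * u : GL ι F) = ((i * u : GL ι F) : M) * i := by
    rw [Units.val_mul, mul_assoc (i : M) (u : M) (i : M), hiu]
  have had : (i : M) * (u * v : GL ι F) = ((u * v : GL ι F) : M) * i := by
    rw [Units.val_mul, ← mul_assoc, hiu, mul_assoc, hiv, mul_assoc]
  have hbd : (j : M) * (u * v : GL ι F) = ((u * v : GL ι F) : M) * j := by
    rw [Units.val_mul, ← mul_assoc, hju, mul_assoc, hjv, mul_assoc]
  have hcd : ((i * u : GL ι F) : M) * (u * v : GL ι F) = -(((u * v : GL ι F) : M) * (i * u : GL ι F)) := by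
    rw [Units.val_mul, Units.val_mul]
    calc (i : M) * u * (u * v) = (i : M) * ((u : M) * u) * v := by simp only [mul_assoc]
      _ = (i : M) * v := by rw [huu, mul_one]
      _ = -((u : M) * v * ((i : M) * u)) := by
        rw [show (u : M) * v * ((i : M) * u) = (u : M) * ((v : M) * i) * u by simp only [mul_assoc], ← hiv,
          show (u : M) * ((i : M) * v) * u = (u : M) * i * ((v : M) * u) by simp only [mul_assoc], ← hiu,
          show (v : M) * u = -((u : M) * v) by rw [huv, neg_neg], mul_neg, neg_neg, mul_assoc,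
          ← mul_assoc (u : M) (u : M), huu, one_mul]
  obtain ⟨E1, E2, E3, E4, E5⟩ := five_cycle hii hjj hc' hd' hij hbc hcd hac had hbd
  set H : M := (1 + (i : M)) * (1 + (j : M)) * (1 + ((i * u : GL ι F) : M)) * (1 + ((u * v : GL ι F) : M)) with hH
  have h4 : (4 : F)⁻¹ ≠ 0 := inv_ne_zero (by
    rw [show (4 : F) = 2 * 2 by norm_num]; exact mul_ne_zero h2 h2)
  set g := scal h4 * onePlus h2 (i : M) hii * onePlus h2 (j : M) hjj * onePlus h2 ((i * u : GL ι F) : M) hc' *
    onePlus h2 ((u * v : GL ι F) : M) hd' with hg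
  have hgv : (g : M) = (4 : F)⁻¹ • H := by
    simp only [hg, hH, Units.val_mul, onePlus_val, scal_val, smul_mul_assoc, one_mul]
  have hgw : ∀ {x y : M}, H * x = y * H → (g : M) * x = y * g := fun {x y} h => by
    rw [hgv, smul_mul_assoc, h, mul_smul_comm]
  have hN : g ∈ Cfsg.Geo.subgroupNormalizer R :=
    mul_mem (mul_mem (mul_mem (mul_mem (scal_mem_normalizer h4 R) (onePlus_mem hP h2 hi hii))
      (onePlus_mem hP h2 hj hjj)) (onePlus_mem hP h2 (mul_mem hi hu) hc')) (onePlus_mem hP h2 (mul_mem hu hv) hd')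
  refine ⟨g, i, j, i * u, u * v, h4, hii, hjj, hc', hd', hi, hj, mul_mem hi hu, mul_mem hu hv, rfl, hN, ?_, ?_⟩
  · intro hcomm
    have h1 := congrArg (fun x : GL ι F => (x : M)) hcomm
    simp only [Units.val_mul] at h1
    rw [hgw E1] at h1
    have h3 : (j : M) = i := g.isUnit.mul_right_cancel h1
    rw [h3, eq_neg_iff_add_eq_zero, hii, ← neg_add, neg_eq_zero, ← two_smul F (1 : M)] at hij
    exact h2 ((smul_eq_zero.mp hij).resolve_right one_ne_zero)
  · have cyc : ∀ {p q r s t : M}, (g : M) * p = q * g → (g : M) * q = r * g → (g : M) * r = s * g →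
        (g : M) * s = t * g → (g : M) * t = p * g → (g : M) ^ 5 * p = p * (g : M) ^ 5 := by
      intro p q r s t k1 k2 k3 k4 k5
      calc (g : M) ^ 5 * p = (g : M) * g * g * g * ((g : M) * p) := by simp only [pow_succ, pow_zero, one_mul, mul_assoc]
        _ = (g : M) * g * g * ((g : M) * q) * g := by rw [k1]; simp only [mul_assoc]
        _ = (g : M) * g * ((g : M) * r) * g * g := by rw [k2]; simp only [mul_assoc]
        _ = (g : M) * ((g : M) * s) * g * g * g := by rw [k3]; simp only [mul_assoc]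
        _ = ((g : M) * t) * g * g * g * g := by rw [k4]; simp only [mul_assoc]
        _ = p * (g : M) ^ 5 := by rw [k5]; simp only [pow_succ, pow_zero, one_mul, mul_assoc]
    have C1 := cyc (hgw E1) (hgw E2) (hgw E3) (hgw E4) (hgw E5)
    have C2 := cyc (hgw E2) (hgw E3) (hgw E4) (hgw E5) (hgw E1)
    have C3 := cyc (hgw E3) (hgw E4) (hgw E5) (hgw E1) (hgw E2)
    have C4 := cyc (hgw E4) (hgw E5) (hgw E1) (hgw E2) (hgw E3)
    rw [Units.val_pow_eq_pow_val]
    have Cu : (g : M) ^ 5 * u = u * (g : M) ^ 5 := by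
      rw [show (u : M) = -((i : M) * ((i * u : GL ι F) : M)) by
        rw [Units.val_mul, ← mul_assoc, hii, neg_mul, one_mul, neg_neg]]
      rw [mul_neg, neg_mul, ← mul_assoc, C1, mul_assoc, C3, mul_assoc]
    refine hgen _ C1 C2 Cu ?_
    rw [show (v : M) = (u : M) * ((u * v : GL ι F) : M) by rw [Units.val_mul, ← mul_assoc, huu, one_mul]]
    rw [← mul_assoc, Cu, mul_assoc, C4, mul_assoc]

end Matrices

end Cfsg.Agent.Lib.SympFour
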