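import Cfsg.Agent.Lib.SympFour.Basic
import Mathlib

/-!
Elements of odd order normalising a group of symplectic type and exponent four.
-/

set_option autoImplicit false

namespace Cfsg.Agent.Lib.SympFour

open Matrix

variable {ι : Type} [Fintype ι] [DecidableEq ι] [Nonempty ι] {F : Type*} [Field F]

local notation "M" => Matrix ι ι F

theorem conj_mem {R : Subgroup (GL ι F)} {g : GL ι F} (hg : g ∈ Cfsg.Geo.subgroupNormalizer R)
    {s : GL ι F} (hs : s ∈ R) : g * s * g⁻¹ ∈ R :=
  (hg s).mp hs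

namespace Pauli

variable {R : Subgroup (GL ι F)}

theorem pow_four (hP : Pauli R) {s : GL ι F} (hs : s ∈ R) : s ^ 4 = 1 := by
  apply Units.ext
  rw [Units.val_pow_eq_pow_val, Units.val_one, show 4 = 2 * 2 from rfl, pow_mul, pow_two (s : M)]
  rcases hP.sq s hs with h | h <;> rw [h] <;> simp

/-- An element of odd order moves no member by a scalar. -/
theorem eq_one_of_scalar (hP : Pauli R) {g : GL ι F} (hg : g ∈ Cfsg.Geo.subgroupNormalizer R) {r : ℕ}
    (hr : Odd r) (hgr : g ^ r = 1) {s : GL ι F} (hs : s ∈ R) (h : IsScal ((g * s * g⁻¹ * s⁻¹ : GL ι F) : M)) :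
    g * s = s * g := by
  obtain ⟨c, hc⟩ := h
  set d := g * s * g⁻¹ * s⁻¹ with hd
  have hdR : d ∈ R := mul_mem (conj_mem hg hs) (inv_mem hs)
  have hdc : ∀ y : GL ι F, Commute d y := fun y => Units.ext (by simp [hc])
  have hgs : g * s * g⁻¹ = d * s := by rw [hd]; group
  clear_value d
  have hiter : ∀ n : ℕ, g ^ n * s * (g ^ n)⁻¹ = d ^ n * s := fun n => by
    induction n with
    | zero => simp
    | succ n ih =>
      calc g ^ (n + 1) * s * (g ^ (n + 1))⁻¹ = g * (g ^ n * s * (g ^ n)⁻¹) * g⁻¹ := by rw [pow_succ']; group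
        _ = (g * d ^ n) * s * g⁻¹ := by rw [ih]; group
        _ = d ^ n * (g * s * g⁻¹) := by rw [((hdc g).pow_left n).eq.symm]; group
        _ = d ^ (n + 1) * s := by rw [hgs, ← mul_assoc, ← pow_succ]
  have h1 := hiter r
  rw [hgr, one_mul, inv_one, mul_one] at h1
  have hd1 : d = 1 := by
    have h2 : d ^ r = 1 := mul_eq_right.mp h1.symm
    rw [← orderOf_eq_one_iff]
    refine Nat.eq_one_of_dvd_coprimes ?_ (orderOf_dvd_of_pow_eq_one h2) (orderOf_dvd_of_pow_eq_one (hP.pow_four hdR))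
    exact Nat.Coprime.pow_right 2 (Nat.coprime_two_right.mpr hr)
  rw [hd1, one_mul] at hgs
  exact mul_inv_eq_iff_eq_mul.mp hgs

/-- The trace formula. -/
theorem trace_formula (hP : Pauli R) (h2 : (2 : F) ≠ 0) {g : GL ι F} (hg : g ∈ Cfsg.Geo.subgroupNormalizer R)
    {r : ℕ} (hr : Odd r) (hgr : g ^ r = 1) :
    (Fintype.card ι : F) ^ 2 * (Nat.card {s : R // g * (s : GL ι F) = (s : GL ι F) * g} : F) =
      (Nat.card R : F) * (Matrix.trace (g : M) * Matrix.trace ((g⁻¹ : GL ι F) : M)) := by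
  classical
  haveI := hP.fin
  letI := @Fintype.ofFinite R hP.fin
  obtain ⟨c, hc, hc'⟩ := hP.sum_conj (g : M) (Classical.arbitrary ι)
  have h1 := congrArg (fun X => Matrix.trace (X * ((g⁻¹ : GL ι F) : M))) hc
  simp only [Finset.sum_mul, Matrix.trace_sum, smul_mul_assoc, one_mul, Matrix.trace_smul, smul_eq_mul] at h1
  have e : ∀ s : R, Matrix.trace (((s : GL ι F) : M) * (g : M) * (((s : GL ι F)⁻¹ : GL ι F) : M) *
      ((g⁻¹ : GL ι F) : M)) = if g * (s : GL ι F) = (s : GL ι F) * g then (Fintype.card ι : F) else 0 := by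
    intro s
    split_ifs with h
    · rw [← Units.val_mul (s : GL ι F) g, ← h, Units.val_mul, mul_assoc _ ((s : GL ι F) : M), Units.mul_inv,
        mul_one, Units.mul_inv, Matrix.trace_one]
    · have h' : (s : GL ι F) * g * (s : GL ι F)⁻¹ * g⁻¹ ∈ R := by
        have e : (s : GL ι F) * g * (s : GL ι F)⁻¹ * g⁻¹ = s * (g * (s : GL ι F)⁻¹ * g⁻¹) := by group
        rw [e]
        exact mul_mem s.2 (conj_mem hg (inv_mem s.2))
      refine (congrArg Matrix.trace (?_ : _ = (((s : GL ι F) * g * (s : GL ι F)⁻¹ * g⁻¹ : GL ι F) : M))).trans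
        (hP.trace_eq_zero h2 h' fun hs => h ?_)
      · simp
      · refine hP.eq_one_of_scalar hg hr hgr s.2 ?_
        obtain ⟨a, ha⟩ := hs
        refine ⟨a⁻¹, ?_⟩
        rw [show g * (s : GL ι F) * g⁻¹ * (s : GL ι F)⁻¹ =
          ((s : GL ι F) * g * (s : GL ι F)⁻¹ * g⁻¹)⁻¹ by group, Matrix.coe_units_inv, ha]
        have ha0 : a ≠ 0 := fun ha0 => Units.ne_zero ((s : GL ι F) * g * (s : GL ι F)⁻¹ * g⁻¹)
          (by rw [ha, ha0, zero_smul])
        exact Matrix.inv_eq_right_inv (by rw [smul_mul_smul_comm, mul_inv_cancel₀ ha0, one_smul, one_mul])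
  rw [Finset.sum_congr rfl fun s _ => e s, Finset.sum_ite, Finset.sum_const, Finset.sum_const_zero, add_zero,
    nsmul_eq_mul] at h1
  rw [Nat.card_eq_fintype_card (α := {s : R // g * (s : GL ι F) = (s : GL ι F) * g}), Fintype.card_subtype,
    pow_two, mul_assoc, mul_comm (Fintype.card ι : F) (Finset.card _ : F), h1, ← mul_assoc, hc', mul_assoc]

/-- Fixed points of an element of prime order on a conjugation invariant set of members. -/
theorem card_fixed_modEq (hP : Pauli R) {g : GL ι F} (hg : g ∈ Cfsg.Geo.subgroupNormalizer R) {r : ℕ}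
    [Fact r.Prime] (hgr : g ^ r = 1) (P : GL ι F → Prop) (hPc : ∀ s, P (g * s * g⁻¹) ↔ P s) :
    Nat.card {s : R // P s} ≡ Nat.card {s : R // P s ∧ g * (s : GL ι F) = (s : GL ι F) * g} [MOD r] := by
  classical
  haveI := hP.fin
  let α := {s : R // P s}
  letI : Fintype α := Fintype.ofFinite α
  let f : Function.End α := fun a => ⟨⟨g * (a.1 : GL ι F) * g⁻¹, conj_mem hg a.1.2⟩, (hPc _).mpr a.2⟩
  have hit : ∀ (n : ℕ) (a : α), (((f ^ n) a).1 : GL ι F) = g ^ n * (a.1 : GL ι F) * (g ^ n)⁻¹ := by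
    intro n
    induction n with
    | zero => intro a; simp; rfl
    | succ n ih =>
      intro a
      rw [pow_succ']
      change g * (((f ^ n) a).1 : GL ι F) * g⁻¹ = _
      rw [ih, pow_succ']
      group
  have hf : f ^ r ^ 1 = 1 := by
    funext a
    rw [pow_one]
    exact Subtype.ext (Subtype.ext (by rw [hit, hgr]; simp; rfl))
  have h1 := Equiv.Perm.card_fixedPoints_modEq hf
  rw [← Nat.card_eq_fintype_card, ← Nat.card_eq_fintype_card] at h1
  refine h1.trans ?_
  rw [Nat.card_congr (show Function.fixedPoints f ≃ {s : R // P s ∧ g * (s : GL ι F) = (s : GL ι F) * g} from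
    (Equiv.subtypeEquivRight fun a => ?_).trans (Equiv.subtypeSubtypeEquivSubtypeInter
      (fun s : R => P s) fun s : R => g * (s : GL ι F) = (s : GL ι F) * g))]
  constructor
  · intro h
    exact mul_inv_eq_iff_eq_mul.mp (congrArg (fun b : α => (b.1 : GL ι F)) h)
  · intro h
    exact Subtype.ext (Subtype.ext (mul_inv_eq_iff_eq_mul.mpr h))

end Pauli

end Cfsg.Agent.Lib.SympFour
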