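import Mathlib

/-!
Elements of order five in degree four, when the fifth cyclotomic polynomial is irreducible.
-/

set_option autoImplicit false

namespace Cfsg.Agent.Lib.SympFour

open Matrix Polynomial

variable {F : Type*} [Field F] [Fintype F] {p : ℕ} [Fact p.Prime]

theorem irreducible_cyclotomic_five (hF : Fintype.card F = p) (ho : orderOf (p : ZMod 5) = 4) :
    Irreducible (cyclotomic 5 F) := by
  have h5 : ¬ p = 5 := fun h => by
    subst h
    rw [ZMod.natCast_self, orderOf_zero] at ho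
    omega
  have hcop : p.Coprime 5 := (Nat.coprime_primes Fact.out (by norm_num)).mpr h5
  refine Polynomial.irreducible_of_dvd_cyclotomic_of_natDegree (p := p) (f := 1) (by simpa using hF) hcop
    dvd_rfl ?_
  rw [natDegree_cyclotomic, ← orderOf_units, ZMod.coe_unitOfCoprime, pow_one, ho]
  rfl

variable {ι : Type} [Fintype ι] [DecidableEq ι]

local notation "M" => Matrix ι ι F

/-- Two commuting elements of order five generate the same subgroup. -/
theorem exists_pow_eq (hι : Fintype.card ι = 4) (hF : Fintype.card F = p) (ho : orderOf (p : ZMod 5) = 4)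
    {z y : M} (hz : z ^ 5 = 1) (hz1 : z ≠ 1) (hy : y ^ 5 = 1) (hc : y * z = z * y) : ∃ k : ℕ, y = z ^ k := by
  haveI : Fact (Nat.Prime 5) := ⟨by norm_num⟩
  haveI : Nonempty ι := Fintype.card_pos_iff.mp (by omega)
  haveI hirr : Fact (Irreducible (cyclotomic 5 F)) := ⟨irreducible_cyclotomic_five hF ho⟩
  have hm : aeval z (cyclotomic 5 F) = 0 := by
    have hdvd : minpoly F z ∣ cyclotomic 5 F * (X - C 1) := by
      refine minpoly.dvd F z ?_
      rw [map_one, cyclotomic_prime_mul_X_sub_one, map_sub, map_pow, aeval_X, map_one, hz, sub_self]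
    have hint : IsIntegral F z := Algebra.IsIntegral.isIntegral z
    by_cases hd : cyclotomic 5 F ∣ minpoly F z
    · obtain ⟨Q, hQ⟩ := hd
      have hQ0 : Q ≠ 0 := fun e => minpoly.ne_zero hint (by rw [hQ, e, mul_zero])
      have hdeg : (minpoly F z).natDegree ≤ 4 :=
        hι ▸ (natDegree_le_of_dvd (Matrix.minpoly_dvd_charpoly z) z.charpoly_monic.ne_zero).trans
          z.charpoly_natDegree_eq_dim.le
      rw [hQ, natDegree_mul hirr.out.ne_zero hQ0, natDegree_cyclotomic, show Nat.totient 5 = 4 from rfl] at hdeg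
      have hQc : Q = C (Q.coeff 0) := eq_C_of_natDegree_eq_zero (by omega)
      have h0 := minpoly.aeval F z
      rw [hQ, hQc, map_mul, aeval_C, Algebra.algebraMap_eq_smul_one, mul_smul_comm, mul_one] at h0
      exact (smul_eq_zero.mp h0).resolve_left fun e => hQ0 (by rw [hQc, e, map_zero])
    · exfalso
      have hdvd' : minpoly F z ∣ (X - C 1 : F[X]) :=
        ((hirr.out.coprime_iff_not_dvd.mpr hd).symm).dvd_of_dvd_mul_left hdvd
      obtain ⟨Q, hQ⟩ := hdvd'
      have h0 : aeval z (X - C (1 : F)) = 0 := by rw [hQ, map_mul, minpoly.aeval, zero_mul]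
      rw [map_sub, aeval_X, aeval_C, map_one, sub_eq_zero] at h0
      exact hz1 h0
  let φ : AdjoinRoot (cyclotomic 5 F) →ₐ[F] M :=
    Ideal.Quotient.liftₐ (Ideal.span {cyclotomic 5 F}) (aeval z) (fun a ha => by
      obtain ⟨b, rfl⟩ := Ideal.mem_span_singleton'.mp ha
      rw [map_mul, hm, mul_zero])
  have hroot : φ (AdjoinRoot.root _) = z := aeval_X (R := F) z
  obtain ⟨v, hv⟩ : ∃ v : ι → F, v ≠ 0 := exists_ne 0
  let ψ : AdjoinRoot (cyclotomic 5 F) →ₗ[F] (ι → F) :=
    { toFun := fun k => φ k *ᵥ v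
      map_add' := fun a b => by simp [Matrix.add_mulVec]
      map_smul' := fun c a => by simp [Matrix.smul_mulVec] }
  have hψ : Function.Injective ψ := by
    refine (injective_iff_map_eq_zero ψ).mpr fun k hk => ?_
    by_contra hk0
    apply hv
    have e : φ k⁻¹ *ᵥ (φ k *ᵥ v) = v := by
      rw [Matrix.mulVec_mulVec, ← map_mul, inv_mul_cancel₀ hk0, map_one, Matrix.one_mulVec]
    rw [show φ k *ᵥ v = 0 from hk, Matrix.mulVec_zero] at e
    exact e.symm
  haveI : FiniteDimensional F (AdjoinRoot (cyclotomic 5 F)) := (AdjoinRoot.powerBasis hirr.out.ne_zero).finite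
  have hsurj : Function.Surjective ψ := by
    refine (LinearMap.injective_iff_surjective_of_finrank_eq_finrank ?_).mp hψ
    rw [(AdjoinRoot.powerBasis hirr.out.ne_zero).finrank, AdjoinRoot.powerBasis_dim, natDegree_cyclotomic,
      Module.finrank_fintype_fun_eq_card, hι]
    rfl
  obtain ⟨k, hk⟩ := hsurj (y *ᵥ v)
  have hcomm : ∀ l, y * φ l = φ l * y := by
    intro l
    induction l using AdjoinRoot.induction_on with
    | _ q =>
      induction q using Polynomial.induction_on with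
      | C c => rw [AdjoinRoot.mk_C, ← AdjoinRoot.algebraMap_eq, AlgHom.commutes]; exact (Algebra.commutes c y).symm
      | add a b ha hb => rw [map_add, map_add, mul_add, add_mul, ha, hb]
      | monomial n c ih =>
        rw [pow_succ, ← mul_assoc, map_mul, map_mul, AdjoinRoot.mk_X, hroot, ← mul_assoc, ih, mul_assoc, hc,
          mul_assoc]
  have hyk : y = φ k := by
    refine Matrix.toLin'.injective (LinearMap.ext fun w => ?_)
    obtain ⟨l, rfl⟩ := hsurj w
    change y *ᵥ (φ l *ᵥ v) = φ k *ᵥ (φ l *ᵥ v)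
    rw [Matrix.mulVec_mulVec, hcomm, ← Matrix.mulVec_mulVec, show y *ᵥ v = φ k *ᵥ v from hk.symm,
      Matrix.mulVec_mulVec, Matrix.mulVec_mulVec, ← map_mul, ← map_mul, mul_comm]
  have hφinj : Function.Injective φ := fun a b e => hψ (by change φ a *ᵥ v = φ b *ᵥ v; rw [e])
  set ζ := AdjoinRoot.root (cyclotomic 5 F)
  have hprim : IsPrimitiveRoot ζ 5 := by
    have h5 : ζ ^ 5 = 1 := hφinj (by rw [map_pow, hroot, hz, map_one])
    have hne : ζ ≠ 1 := fun e => hz1 (by rw [← hroot, e, map_one])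
    haveI : Fact (Nat.Prime 5) := ⟨by norm_num⟩
    exact (IsPrimitiveRoot.iff_orderOf).mpr (orderOf_eq_prime h5 hne)
  have hk5 : k ^ 5 = 1 := hφinj (by rw [map_pow, ← hyk, hy, map_one])
  obtain ⟨i, -, hi⟩ := hprim.eq_pow_of_pow_eq_one hk5
  exact ⟨i, by rw [hyk, ← hi, map_pow, hroot]⟩

/-- All subgroups of order five are conjugate. -/
theorem exists_conj_pow (hι : Fintype.card ι = 4) (hF : Fintype.card F = p) (ho : orderOf (p : ZMod 5) = 4)
    (S : Subgroup (GL ι F)) {x y : GL ι F} (hx : x ∈ S) (hy : y ∈ S) (hx5 : x ^ 5 = 1) (hy5 : y ^ 5 = 1)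
    (hy1 : y ≠ 1) : ∃ g ∈ S, ∃ k : ℕ, g⁻¹ * x * g = y ^ k := by
  classical
  haveI : Fact (Nat.Prime 5) := ⟨by norm_num⟩
  haveI : Finite (GL ι F) := inferInstance
  let x' : S := ⟨x, hx⟩
  let y' : S := ⟨y, hy⟩
  have hyo : orderOf y' = 5 := orderOf_eq_prime (Subtype.ext hy5) (fun e => hy1 (congrArg Subtype.val e))
  have hp : ∀ w : S, w ^ 5 = 1 → IsPGroup 5 (Subgroup.zpowers w) := fun w hw g => by
    obtain ⟨n, hn⟩ := Subgroup.mem_zpowers_iff.mp g.2
    refine ⟨1, Subtype.ext ?_⟩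
    change (g : S) ^ 5 ^ 1 = 1
    rw [← hn, pow_one, ← zpow_natCast, ← _root_.zpow_mul, mul_comm, _root_.zpow_mul, zpow_natCast, hw, _root_.one_zpow]
  obtain ⟨P, hP⟩ := (hp x' (Subtype.ext hx5)).exists_le_sylow
  obtain ⟨Q, hQ⟩ := (hp y' (Subtype.ext hy5)).exists_le_sylow
  obtain ⟨g, hg⟩ := MulAction.exists_smul_eq S Q P
  have hy'P : g * y' * g⁻¹ ∈ (P : Subgroup S) := by
    rw [← hg, Sylow.smul_def]
    exact Subgroup.smul_mem_pointwise_smul y' (MulAut.conj g) _ (hQ (Subgroup.mem_zpowers y'))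
  have hne : g * y' * g⁻¹ ≠ 1 := fun e => hy1 (congrArg Subtype.val (conj_eq_one_iff.mp e))
  haveI : Nontrivial (P : Subgroup S) := ⟨⟨⟨_, hy'P⟩, 1, fun e => hne (congrArg Subtype.val e)⟩⟩
  haveI := P.2.center_nontrivial
  obtain ⟨n, hn⟩ := (P.2.to_subgroup (Subgroup.center (P : Subgroup S))).exists_card_eq
  obtain ⟨w, hw⟩ := exists_prime_orderOf_dvd_card' (G := Subgroup.center (P : Subgroup S)) 5 (by
    have h1 : 1 < Nat.card (Subgroup.center (P : Subgroup S)) := Finite.one_lt_card_iff_nontrivial.mpr inferInstance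
    rw [hn] at h1 ⊢
    rcases n with _ | n
    · simp at h1
    · exact dvd_pow_self 5 (Nat.succ_ne_zero n))
  let z : GL ι F := ((w : (P : Subgroup S)) : S)
  have hz5 : (z : M) ^ 5 = 1 := by
    rw [← Units.val_pow_eq_pow_val, show z ^ 5 = 1 from by
      have := pow_orderOf_eq_one w
      rw [hw] at this
      exact congrArg (fun a : Subgroup.center (P : Subgroup S) => (((a : (P : Subgroup S)) : S) : GL ι F)) this]
    rfl
  have hz1 : (z : M) ≠ 1 := fun e => by
    have : w = 1 := Subtype.ext (Subtype.ext (Subtype.ext (Units.ext e)))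
    rw [this, orderOf_one] at hw
    omega
  have hin : ∀ a : S, a ∈ (P : Subgroup S) → a ^ 5 = 1 → ∃ m : ℕ, (a : GL ι F) = z ^ m := by
    intro a ha ha5
    have hcomm := congrArg (fun b : (P : Subgroup S) => (((b : S) : GL ι F) : M)) (Subgroup.mem_center_iff.mp w.2 ⟨a, ha⟩)
    simp only [Subgroup.coe_mul, Units.val_mul] at hcomm
    obtain ⟨m, hm⟩ := exists_pow_eq hι hF ho hz5 hz1
      (by rw [← Units.val_pow_eq_pow_val, ← SubgroupClass.coe_pow, ha5]; rfl) hcomm
    exact ⟨m, Units.ext (by rw [Units.val_pow_eq_pow_val]; exact hm)⟩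
  obtain ⟨a, ha⟩ := hin x' (hP (Subgroup.mem_zpowers x')) (Subtype.ext hx5)
  obtain ⟨b, hb⟩ := hin _ hy'P (by rw [conj_pow, ← hyo, pow_orderOf_eq_one, mul_one, mul_inv_cancel])
  have hb5 : ¬ 5 ∣ b := by
    rintro ⟨c, rfl⟩
    refine hne (Subtype.ext ?_)
    rw [hb, pow_mul, show z ^ 5 = 1 from Units.ext (by rw [Units.val_pow_eq_pow_val]; exact hz5), one_pow]
    rfl
  obtain ⟨c, hc⟩ : ∃ c : ℕ, (b * c) % 5 = a % 5 := by
    have : ∀ b a : Fin 5, b ≠ 0 → ∃ c : Fin 5, b * c = a := by decide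
    obtain ⟨c, hc⟩ := this ⟨b % 5, by omega⟩ ⟨a % 5, by omega⟩ (fun e => hb5 (Nat.dvd_of_mod_eq_zero (congrArg Fin.val e)))
    refine ⟨c.val, ?_⟩
    have h' := congrArg Fin.val hc
    simp only [Fin.val_mul] at h'
    rw [Nat.mul_mod, Nat.mod_eq_of_lt c.isLt]
    exact h'
  have hz' : z ^ 5 = 1 := Units.ext (by rw [Units.val_pow_eq_pow_val]; exact hz5)
  have hx_eq : x = (g : GL ι F) * y ^ c * (g : GL ι F)⁻¹ := by
    have h1 : ((g * y' * g⁻¹ : S) : GL ι F) ^ c = z ^ a := by
      rw [hb, ← pow_mul, pow_eq_pow_mod (b * c) hz', hc, ← pow_eq_pow_mod a hz']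
    rw [show x = z ^ a from ha, ← h1]
    simp [conj_pow, y']
  refine ⟨(g : GL ι F), g.2, c, ?_⟩
  rw [hx_eq]; group

end Cfsg.Agent.Lib.SympFour
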