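import Cfsg.Prelude.Def_GeometricClasses
import Mathlib

/-!
Conjugacy in `SL₄` of maps satisfying small polynomial identities.
-/

set_option autoImplicit false

namespace Cfsg.Agent.Lib.SympFour.SLConj

open Matrix Module

variable {F : Type*} [Field F]

local notation "M" => Matrix (Fin 4) (Fin 4) F
local notation "V" => (Fin 4 → F)

/-- The matrix with prescribed columns. -/
def cols (c : Fin 4 → V) : M := Matrix.of fun i j => c j i

theorem det_cols_ne {c : Fin 4 → V} (h : LinearIndependent F c) : (cols c).det ≠ 0 := by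
  have h' : IsUnit (cols c) := Matrix.linearIndependent_cols_iff_isUnit.mp h
  exact ((Matrix.isUnit_iff_isUnit_det _).mp h').ne_zero

theorem mul_cols (x : M) (c : Fin 4 → V) : x * cols c = cols fun j => x *ᵥ c j := rfl

theorem cols_mul (c : Fin 4 → V) (N : M) : cols c * N = cols fun j => ∑ k, N k j • c k := by
  ext i j
  simp [cols, Matrix.mul_apply, mul_comm]

/-- Conjugacy by determinant one from a common normal form. -/
theorem exists_conj_SL {x t : GL (Fin 4) F} {N P Q : M} (hP : P.det ≠ 0) (hQ : Q.det ≠ 0)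
    (hx : (x : M) * P = P * N) (ht : (t : M) * Q = Q * N)
    (hN : ∀ d : F, d ≠ 0 → ∃ D : M, D.det = d ∧ D * N = N * D) :
    ∃ g : GL (Fin 4) F, g ∈ Cfsg.Geo.specialLinear (Fin 4) F ∧ g⁻¹ * x * g = t := by
  obtain ⟨D, hD, hDN⟩ := hN (Q.det / P.det) (div_ne_zero hQ hP)
  set Qu : GL (Fin 4) F := Matrix.GeneralLinearGroup.mkOfDetNeZero Q hQ
  set Pu : GL (Fin 4) F := Matrix.GeneralLinearGroup.mkOfDetNeZero (P * D) (by
    rw [Matrix.det_mul, hD, mul_div_cancel₀ _ hP]; exact hQ)
  refine ⟨Pu * Qu⁻¹, ?_, ?_⟩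
  · rw [Cfsg.Geo.specialLinear, MonoidHom.mem_ker, map_mul, map_inv, mul_inv_eq_one]
    exact Units.ext (by
      change (P * D).det = Q.det
      rw [Matrix.det_mul, hD, mul_div_cancel₀ _ hP])
  · have e1 : (x : M) * (P * D) = (P * D) * N := by
      rw [← mul_assoc, hx, mul_assoc, ← hDN, ← mul_assoc]
    set Nu : GL (Fin 4) F := Pu⁻¹ * x * Pu with hNu
    have hNv : (Nu : M) = N := by
      rw [hNu, Units.val_mul, Units.val_mul, mul_assoc, show (x : M) * (Pu : M) = (Pu : M) * N from e1, ← mul_assoc,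
        Units.inv_mul, one_mul]
    have e2 : t * Qu = Qu * Nu := Units.ext (by
      rw [Units.val_mul, Units.val_mul, hNv]; exact ht)
    calc (Pu * Qu⁻¹)⁻¹ * x * (Pu * Qu⁻¹) = Qu * Nu * Qu⁻¹ := by rw [hNu]; group
      _ = t := by rw [← e2, mul_inv_cancel_right]

/-- A basis adapted to a map with an irreducible quadratic identity. -/
theorem exists_pair_basis {x : M} {α β : F} (hx : x * x = α • x + β • 1)
    (hirr : ∀ l : F, l * l ≠ α * l + β) (W : Submodule F V) (hW : ∀ v ∈ W, x *ᵥ v ∈ W) {v : V} (hv : v ∈ W)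
    (hv0 : v ≠ 0) :
    LinearIndependent F ![v, x *ᵥ v] ∧
      ∀ w ∈ W, w ∉ Submodule.span F (Set.range ![v, x *ᵥ v]) → LinearIndependent F ![v, x *ᵥ v, w, x *ᵥ w] := by
  have hxx : ∀ v, x *ᵥ (x *ᵥ v) = α • (x *ᵥ v) + β • v := fun v => by
    rw [Matrix.mulVec_mulVec, hx, Matrix.add_mulVec, Matrix.smul_mulVec, Matrix.smul_mulVec, Matrix.one_mulVec]
  have hpair : ∀ u : V, u ≠ 0 → ∀ a b : F, a • u + b • (x *ᵥ u) = 0 → a = 0 ∧ b = 0 := by
    intro u hu a b h
    by_cases hb : b = 0
    · subst hb
      rw [zero_smul, add_zero] at h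
      exact ⟨(smul_eq_zero.mp h).resolve_right hu, rfl⟩
    · exfalso
      have hl : x *ᵥ u = (-(a / b)) • u := by
        apply smul_right_injective V hb
        simp only [smul_smul, mul_neg, mul_div_cancel₀ _ hb, neg_smul, smul_neg]
        exact eq_neg_of_add_eq_zero_right h
      set l := -(a / b)
      have h2 := hxx u
      rw [hl, Matrix.mulVec_smul, hl, smul_smul, smul_smul, ← add_smul] at h2
      exact hirr l (smul_left_injective F hu h2)
  refine ⟨?_, fun w hw hwn => ?_⟩
  · rw [LinearIndependent.pair_iff]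
    exact fun a b h => hpair v hv0 a b h
  · rw [Fintype.linearIndependent_iff]
    intro g hg
    simp only [Fin.sum_univ_four, Matrix.cons_val_zero, Matrix.cons_val_one, Matrix.cons_val_two,
      Matrix.cons_val_three, Matrix.head_cons, Matrix.tail_cons] at hg
    have h23 : g 2 = 0 ∧ g 3 = 0 := by
      by_contra hne
      apply hwn
      set u := g 2 • w + g 3 • (x *ᵥ w) with hu
      have hu' : u = -(g 0) • v + -(g 1) • (x *ᵥ v) := by
        rw [hu, ← sub_eq_zero]; rw [← hg]; module
      have hspan : ∀ a b : F, a • v + b • (x *ᵥ v) ∈ Submodule.span F (Set.range ![v, x *ᵥ v]) := fun a b =>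
        add_mem (Submodule.smul_mem _ _ (Submodule.subset_span ⟨0, rfl⟩))
          (Submodule.smul_mem _ _ (Submodule.subset_span ⟨1, rfl⟩))
      -- `w` is a combination of `u` and `x u`
      have hxu : x *ᵥ u = (g 3 * β) • w + (g 2 + g 3 * α) • (x *ᵥ w) := by
        rw [hu, Matrix.mulVec_add, Matrix.mulVec_smul, Matrix.mulVec_smul, hxx]; module
      set D := g 2 * (g 2 + g 3 * α) - g 3 * (g 3 * β) with hD
      have hD0 : D ≠ 0 := by
        intro hD0
        by_cases h3 : g 3 = 0
        · rw [hD, h3] at hD0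
          simp at hD0
          exact hne ⟨hD0, h3⟩
        · apply hirr (-(g 2 / g 3))
          field_simp
          rw [hD] at hD0
          linear_combination hD0
      have hw' : D • w = (g 2 + g 3 * α) • u - g 3 • (x *ᵥ u) := by rw [hxu, hu, hD]; module
      have hwu : w = D⁻¹ • ((g 2 + g 3 * α) • u - g 3 • (x *ᵥ u)) := by
        rw [← hw', smul_smul, inv_mul_cancel₀ hD0, one_smul]
      rw [hwu]
      refine Submodule.smul_mem _ _ (sub_mem (Submodule.smul_mem _ _ ?_) (Submodule.smul_mem _ _ ?_))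
      · rw [hu']; exact hspan _ _
      · rw [hu', Matrix.mulVec_add, Matrix.mulVec_smul, Matrix.mulVec_smul, hxx,
          show -(g 0) • (x *ᵥ v) + -(g 1) • (α • (x *ᵥ v) + β • v) =
            (-(g 1) * β) • v + (-(g 0) + -(g 1) * α) • (x *ᵥ v) by module]
        exact hspan _ _
    rw [h23.1, h23.2, zero_smul, zero_smul, add_zero, add_zero] at hg
    have h01 := hpair v hv0 _ _ hg
    intro i
    fin_cases i
    exacts [h01.1, h01.2, h23.1, h23.2]

/-- The normal form of an irreducible quadratic identity. -/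
def quadForm2 (α β : F) : M := !![0, β, 0, 0; 1, α, 0, 0; 0, 0, 0, β; 0, 0, 1, α]

theorem exists_quad_basis {x : M} {α β : F} (hx : x * x = α • x + β • 1) (hirr : ∀ l : F, l * l ≠ α * l + β) :
    ∃ P : M, P.det ≠ 0 ∧ x * P = P * quadForm2 α β := by
  obtain ⟨v, hv⟩ : ∃ v : V, v ≠ 0 := exists_ne 0
  obtain ⟨h2, h4⟩ := exists_pair_basis hx hirr ⊤ (fun _ _ => trivial) (v := v) trivial hv
  obtain ⟨w, -, hw⟩ : ∃ w ∈ (⊤ : Submodule F V), w ∉ Submodule.span F (Set.range ![v, x *ᵥ v]) := by
    by_contra hno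
    push Not at hno
    have := Submodule.finrank_mono (fun w hw => hno w hw : (⊤ : Submodule F V) ≤ _)
    rw [finrank_top, Module.finrank_fin_fun, finrank_span_eq_card h2] at this
    simp at this
  refine ⟨cols ![v, x *ᵥ v, w, x *ᵥ w], det_cols_ne (h4 w trivial hw), ?_⟩
  rw [mul_cols, cols_mul]
  congr 1
  funext j
  fin_cases j <;>
    simp [quadForm2, Fin.sum_univ_four, Matrix.mulVec_mulVec, hx, Matrix.add_mulVec, Matrix.smul_mulVec] <;> module

theorem quadForm2_comm (α β a b : F) :
    (!![a, b * β, 0, 0; b, a + b * α, 0, 0; 0, 0, 1, 0; 0, 0, 0, 1] : M) * quadForm2 α β =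
      quadForm2 α β * !![a, b * β, 0, 0; b, a + b * α, 0, 0; 0, 0, 1, 0; 0, 0, 0, 1] := by
  ext i j
  fin_cases i <;> fin_cases j <;> simp [quadForm2, Matrix.mul_apply, Fin.sum_univ_four] <;> ring

/-- A map of order three with fixed points and without eigenvalues of order three. -/
def mixedForm : M := !![0, -1, 0, 0; 1, -1, 0, 0; 0, 0, 1, 0; 0, 0, 0, 1]

theorem exists_mixed_basis (h3 : (3 : F) ≠ 0) (hirr : ∀ l : F, l * l ≠ -l - 1) {x : M} (hx3 : x * x * x = 1) (hx1 : x ≠ 1)
    (hq : x * x + x + 1 ≠ 0) : ∃ P : M, P.det ≠ 0 ∧ x * P = P * mixedForm := by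
  classical
  set E : M := x * x + x + 1 with hE
  let W := LinearMap.ker E.mulVecLin
  let U := LinearMap.ker (x - 1).mulVecLin
  have hcomm : x * E = E * x := by rw [hE]; noncomm_ring
  have hprod : (x - 1) * E = 0 := by
    rw [hE, show (x - 1) * (x * x + x + 1) = x * x * x - 1 by noncomm_ring, hx3, sub_self]
  have hWinv : ∀ v ∈ W, x *ᵥ v ∈ W := by
    intro v hv
    simp only [W, LinearMap.mem_ker, Matrix.mulVecLin_apply] at hv ⊢
    rw [Matrix.mulVec_mulVec, ← hcomm, ← Matrix.mulVec_mulVec, hv, Matrix.mulVec_zero]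
  have hW : ∀ v ∈ W, x *ᵥ (x *ᵥ v) = (-1 : F) • (x *ᵥ v) + (-1 : F) • v := by
    intro v hv
    simp only [W, LinearMap.mem_ker, Matrix.mulVecLin_apply, hE, Matrix.add_mulVec, ← Matrix.mulVec_mulVec,
      Matrix.one_mulVec] at hv
    rw [neg_one_smul, neg_one_smul, ← sub_eq_zero, ← hv]; abel
  have hU : ∀ u ∈ U, x *ᵥ u = u := by
    intro u hu
    simpa [U, Matrix.sub_mulVec, sub_eq_zero] using hu
  have hdec : ∀ v : V, ∃ u ∈ U, ∃ w ∈ W, u + w = v := by
    intro v
    refine ⟨(3 : F)⁻¹ • (E *ᵥ v), ?_, v - (3 : F)⁻¹ • (E *ᵥ v), ?_, add_sub_cancel _ _⟩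
    · simp only [U, LinearMap.mem_ker, Matrix.mulVecLin_apply, Matrix.mulVec_smul, Matrix.mulVec_mulVec, hprod,
        Matrix.zero_mulVec, smul_zero]
    · have hEE : E * E = (3 : F) • E := by
        rw [← sub_eq_zero, show E * E - (3 : F) • E = (x + (2 : F) • 1) * ((x - 1) * E) by
          rw [hE, ← mul_assoc, show (x + (2 : F) • 1) * (x - 1) = x * x + x - (2 : F) • (1 : M) by
            simp only [mul_sub, add_mul, mul_one, smul_mul_assoc, one_mul]; module,
            show (3 : F) • (x * x + x + 1) = ((3 : F) • (1 : M)) * (x * x + x + 1) by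
              rw [smul_mul_assoc, one_mul], ← sub_mul]
          congr 1
          module, hprod, mul_zero]
      simp only [W, LinearMap.mem_ker, Matrix.mulVecLin_apply, Matrix.mulVec_sub, Matrix.mulVec_smul,
        Matrix.mulVec_mulVec, hEE, Matrix.smul_mulVec, smul_smul, inv_mul_cancel₀ h3, one_smul, sub_self]
  have hdisj : ∀ u ∈ U, u ∈ W → u = 0 := by
    intro u hu hu'
    have h := hW u hu'
    rw [hU u hu, hU u hu] at h
    exact (smul_eq_zero.mp (show (3 : F) • u = 0 by linear_combination (norm := module) h)).resolve_left h3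
  obtain ⟨v, hv, hv0⟩ : ∃ v ∈ W, v ≠ 0 := by
    by_contra hno
    push Not at hno
    apply hx1
    refine Matrix.toLin'.injective (LinearMap.ext fun v => ?_)
    obtain ⟨u, hu, w, hw, rfl⟩ := hdec v
    simp [hno w hw, hU u hu]
  have hxA : ∀ l : F, l * l ≠ (-1) * l + (-1) := fun l => by
    rw [neg_one_mul, ← sub_eq_add_neg]; exact hirr l
  have hpair : ∀ a b : F, a • v + b • (x *ᵥ v) = 0 → a = 0 ∧ b = 0 := by
    intro a b h
    by_cases hb : b = 0
    · subst hb
      rw [zero_smul, add_zero] at h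
      exact ⟨(smul_eq_zero.mp h).resolve_right hv0, rfl⟩
    · exfalso
      have hl : x *ᵥ v = (-(a / b)) • v := by
        apply smul_right_injective V hb
        simp only [smul_smul, mul_neg, mul_div_cancel₀ _ hb, neg_smul, smul_neg]
        exact eq_neg_of_add_eq_zero_right h
      set l := -(a / b)
      have h2 := hW v hv
      rw [hl, Matrix.mulVec_smul, hl, smul_smul, smul_smul, ← add_smul] at h2
      exact hxA l (smul_left_injective F hv0 h2)
  have h2 : LinearIndependent F ![v, x *ᵥ v] := LinearIndependent.pair_iff.mpr hpair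
  -- `W` is the plane through `v`
  have hWle : finrank F W ≤ 2 := by
    by_contra hlt
    obtain ⟨w, hw, hwn⟩ : ∃ w ∈ W, w ∉ Submodule.span F (Set.range ![v, x *ᵥ v]) := by
      by_contra hno
      push Not at hno
      have := Submodule.finrank_mono (show W ≤ _ from fun w hw => hno w hw)
      rw [finrank_span_eq_card h2, Fintype.card_fin] at this
      exact hlt this
    have h4 : LinearIndependent F ![v, x *ᵥ v, w, x *ᵥ w] := by
      have hpw : ∀ u ∈ W, u ≠ 0 → ∀ a b : F, a • u + b • (x *ᵥ u) = 0 → a = 0 ∧ b = 0 := by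
        intro u hu hu0 a b h
        by_cases hb : b = 0
        · subst hb
          rw [zero_smul, add_zero] at h
          exact ⟨(smul_eq_zero.mp h).resolve_right hu0, rfl⟩
        · exfalso
          have hl : x *ᵥ u = (-(a / b)) • u := by
            apply smul_right_injective V hb
            simp only [smul_smul, mul_neg, mul_div_cancel₀ _ hb, neg_smul, smul_neg]
            exact eq_neg_of_add_eq_zero_right h
          set l := -(a / b)
          have h2 := hW u hu
          rw [hl, Matrix.mulVec_smul, hl, smul_smul, smul_smul, ← add_smul] at h2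
          exact hxA l (smul_left_injective F hu0 h2)
      rw [Fintype.linearIndependent_iff]
      intro g hg
      simp only [Fin.sum_univ_four, Matrix.cons_val_zero, Matrix.cons_val_one, Matrix.cons_val_two,
        Matrix.cons_val_three, Matrix.head_cons, Matrix.tail_cons] at hg
      have h23 : g 2 = 0 ∧ g 3 = 0 := by
        by_contra hne
        apply hwn
        set u := g 2 • w + g 3 • (x *ᵥ w) with hu
        have hu' : u = -(g 0) • v + -(g 1) • (x *ᵥ v) := by rw [hu, ← sub_eq_zero]; rw [← hg]; module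
        have hxu : x *ᵥ u = (-g 3) • w + (g 2 - g 3) • (x *ᵥ w) := by
          rw [hu, Matrix.mulVec_add, Matrix.mulVec_smul, Matrix.mulVec_smul, hW w hw]; module
        set D := g 2 * (g 2 - g 3) + g 3 * g 3 with hD
        have hD0 : D ≠ 0 := by
          intro hD0
          by_cases h3 : g 3 = 0
          · rw [hD, h3] at hD0
            simp at hD0
            exact hne ⟨hD0, h3⟩
          · apply hirr (-(g 2 / g 3))
            field_simp
            rw [hD] at hD0
            linear_combination hD0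
        have hw' : D • w = (g 2 - g 3) • u - g 3 • (x *ᵥ u) := by rw [hxu, hu, hD]; module
        rw [show w = D⁻¹ • ((g 2 - g 3) • u - g 3 • (x *ᵥ u)) by
          rw [← hw', smul_smul, inv_mul_cancel₀ hD0, one_smul]]
        have hspan : ∀ a b : F, a • v + b • (x *ᵥ v) ∈ Submodule.span F (Set.range ![v, x *ᵥ v]) := fun a b =>
          add_mem (Submodule.smul_mem _ _ (Submodule.subset_span ⟨0, rfl⟩))
            (Submodule.smul_mem _ _ (Submodule.subset_span ⟨1, rfl⟩))
        refine Submodule.smul_mem _ _ (sub_mem (Submodule.smul_mem _ _ ?_) (Submodule.smul_mem _ _ ?_))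
        · rw [hu']; exact hspan _ _
        · rw [hu', Matrix.mulVec_add, Matrix.mulVec_smul, Matrix.mulVec_smul, hW v hv,
            show -(g 0) • (x *ᵥ v) + -(g 1) • ((-1 : F) • (x *ᵥ v) + (-1 : F) • v) =
              g 1 • v + (-(g 0) + g 1) • (x *ᵥ v) by module]
          exact hspan _ _
      rw [h23.1, h23.2, zero_smul, zero_smul, add_zero, add_zero] at hg
      have h01 := hpw v hv hv0 _ _ hg
      intro i
      fin_cases i
      exacts [h01.1, h01.2, h23.1, h23.2]
    have hall : ∀ y : V, y ∈ W := by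
      intro y
      have htop := h4.span_eq_top_of_card_eq_finrank' (by simp)
      have hy : y ∈ Submodule.span F (Set.range ![v, x *ᵥ v, w, x *ᵥ w]) := htop ▸ Submodule.mem_top
      refine Submodule.span_le.mpr ?_ hy
      rintro _ ⟨i, rfl⟩
      fin_cases i
      exacts [hv, hWinv v hv, hw, hWinv w hw]
    apply hq
    refine Matrix.toLin'.injective (LinearMap.ext fun y => ?_)
    simpa [W] using hall y
  have hdimU : 2 ≤ finrank F U := by
    have h := Submodule.finrank_sup_add_finrank_inf_eq U W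
    have htop : U ⊔ W = ⊤ := eq_top_iff.mpr fun y _ => by
      obtain ⟨u, hu, w, hw, rfl⟩ := hdec y
      exact Submodule.add_mem_sup hu hw
    rw [htop, finrank_top, Module.finrank_fin_fun] at h
    have hinf : U ⊓ W = ⊥ := (Submodule.eq_bot_iff _).mpr fun u hu => hdisj u hu.1 hu.2
    rw [hinf, finrank_bot] at h
    omega
  let b := Module.finBasis F U
  let a1 : V := b ⟨0, by omega⟩
  let a2 : V := b ⟨1, by omega⟩
  have ha : ∀ s t : F, s • a1 + t • a2 = 0 → s = 0 ∧ t = 0 := by
    intro s t h
    have h' : LinearIndependent F ![b ⟨0, by omega⟩, b ⟨1, by omega⟩] := by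
      have := b.linearIndependent.comp ![(⟨0, by omega⟩ : Fin (finrank F U)), ⟨1, by omega⟩] (by
        intro i j e
        fin_cases i <;> fin_cases j <;> first | rfl | (simp [Fin.ext_iff] at e))
      convert this using 1
      funext i
      fin_cases i <;> rfl
    exact LinearIndependent.pair_iff.mp h' s t (Subtype.ext (by simpa [a1, a2] using h))
  have hli : LinearIndependent F ![v, x *ᵥ v, a1, a2] := by
    rw [Fintype.linearIndependent_iff]
    intro g hg
    simp only [Fin.sum_univ_four, Matrix.cons_val_zero, Matrix.cons_val_one, Matrix.cons_val_two,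
      Matrix.cons_val_three, Matrix.head_cons, Matrix.tail_cons] at hg
    have hu : g 2 • a1 + g 3 • a2 ∈ U :=
      add_mem (Submodule.smul_mem _ _ (b _).2) (Submodule.smul_mem _ _ (b _).2)
    have hw : g 2 • a1 + g 3 • a2 ∈ W := by
      rw [show g 2 • a1 + g 3 • a2 = -(g 0 • v + g 1 • (x *ᵥ v)) by
        rw [eq_neg_iff_add_eq_zero, ← hg]; abel]
      exact neg_mem (add_mem (Submodule.smul_mem _ _ hv) (Submodule.smul_mem _ _ (hWinv v hv)))
    have h0 := hdisj _ hu hw
    have h23 := ha _ _ h0
    rw [add_assoc _ _ (g 3 • a2), h0, add_zero] at hg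
    have h01 := hpair _ _ hg
    intro i
    fin_cases i
    exacts [h01.1, h01.2, h23.1, h23.2]
  refine ⟨cols ![v, x *ᵥ v, a1, a2], det_cols_ne hli, ?_⟩
  rw [mul_cols, cols_mul]
  congr 1
  funext j
  fin_cases j <;> simp [mixedForm, Fin.sum_univ_four]
  · have h' := hW v hv
    rw [Matrix.mulVec_mulVec] at h'
    rw [h']; module
  · exact hU a1 (b _).2
  · exact hU a2 (b _).2

theorem mixedForm_comm (d : F) :
    (Matrix.diagonal ![1, 1, d, 1] : M) * mixedForm = mixedForm * Matrix.diagonal ![1, 1, d, 1] := by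
  ext i j
  fin_cases i <;> fin_cases j <;> simp [mixedForm, Matrix.mul_apply, Fin.sum_univ_four, Matrix.diagonal]

/-- An involution is diagonal in some basis. -/
theorem exists_diag_basis (h2 : (2 : F) ≠ 0) {e : M} (he : e * e = 1) :
    ∃ a : ℕ, a ≤ 4 ∧ ∃ P : M, P.det ≠ 0 ∧
      e * P = P * Matrix.diagonal (fun j : Fin 4 => if (j : ℕ) < a then (1 : F) else -1) := by
  classical
  let U := LinearMap.ker (e - 1).mulVecLin
  let W := LinearMap.ker (e + 1).mulVecLin
  have hU : ∀ u, u ∈ U ↔ e *ᵥ u = u := fun u => by simp [U, Matrix.sub_mulVec, sub_eq_zero]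
  have hW : ∀ u, u ∈ W ↔ e *ᵥ u = -u := fun u => by simp [W, Matrix.add_mulVec, add_eq_zero_iff_eq_neg]
  have hc : IsCompl U W := by
    constructor
    · rw [Submodule.disjoint_def]
      intro u hu hw
      rw [hU] at hu
      rw [hW, hu] at hw
      exact (smul_eq_zero.mp (show (2 : F) • u = 0 by rw [two_smul]; exact eq_neg_iff_add_eq_zero.mp hw)).resolve_left h2
    · rw [codisjoint_iff, eq_top_iff]
      intro v _
      rw [show v = (2 : F)⁻¹ • (v + e *ᵥ v) + (2 : F)⁻¹ • (v - e *ᵥ v) by
        rw [← smul_add, show v + e *ᵥ v + (v - e *ᵥ v) = (2 : F) • v by rw [two_smul]; abel, inv_smul_smul₀ h2]]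
      refine Submodule.add_mem_sup (Submodule.smul_mem _ _ ?_) (Submodule.smul_mem _ _ ?_)
      · rw [hU, Matrix.mulVec_add, Matrix.mulVec_mulVec, he, Matrix.one_mulVec, add_comm]
      · rw [hW, Matrix.mulVec_sub, Matrix.mulVec_mulVec, he, Matrix.one_mulVec, neg_sub]
  have hsum := Submodule.finrank_add_eq_of_isCompl hc
  rw [Module.finrank_fin_fun] at hsum
  let B : Basis (Fin 4) F V :=
    (((Module.finBasis F U).prod (Module.finBasis F W)).map (Submodule.prodEquivOfIsCompl U W hc)).reindex
      (finSumFinEquiv.trans (finCongr hsum))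
  refine ⟨finrank F U, by omega, cols B, det_cols_ne B.linearIndependent, ?_⟩
  rw [mul_cols, cols_mul]
  congr 1
  funext j
  rw [Finset.sum_eq_single j (fun k _ hk => by simp [Matrix.diagonal, hk]) (by simp)]
  rw [Matrix.diagonal_apply_eq]
  obtain ⟨s, rfl⟩ := (finSumFinEquiv.trans (finCongr hsum)).surjective j
  rcases s with s | s <;> simp [B, Basis.reindex_apply]
  · exact (hU _).mp (Module.finBasis F U s).2
  · exact (hW _).mp (Module.finBasis F W s).2

theorem trace_eq_of_basis {e P N : M} (hP : P.det ≠ 0) (h : e * P = P * N) : e.trace = N.trace := by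
  have hu : IsUnit P.det := isUnit_iff_ne_zero.mpr hP
  rw [show e = P * N * P⁻¹ by rw [← h, Matrix.mul_nonsing_inv_cancel_right _ _ hu],
    Matrix.trace_mul_comm, ← mul_assoc, Matrix.nonsing_inv_mul _ hu, one_mul]

theorem diag_comm (N : Fin 4 → F) (d : F) :
    (Matrix.diagonal ![d, 1, 1, 1] : M) * Matrix.diagonal N = Matrix.diagonal N * Matrix.diagonal ![d, 1, 1, 1] := by
  rw [Matrix.diagonal_mul_diagonal, Matrix.diagonal_mul_diagonal]
  congr 1
  funext i
  exact mul_comm _ _

end Cfsg.Agent.Lib.SympFour.SLConj
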