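import Cfsg.Agent.Lib.Similar.Unitary
import Cfsg.Agent.Lib.SympFour.SLConj
import Cfsg.Agent.Lib.SympFour.FiveCycle
import Mathlib

/-!
Conjugacy in `SU_4` for elements of small order.
-/

set_option autoImplicit false

namespace Cfsg.Agent.Lib.SympFour.UnitaryFour

open Matrix
open Cfsg.Agent.Lib.Classical (conjHom conjHom_apply conjHom_ne_id conjHom_conjHom)
open Cfsg.Agent.Lib.SuSpec (adj adj_mul adj_one adj_adj adj_add det_adj)
open Cfsg.Agent.Lib.Similar (mem_GU_adj isConj_GU_iff exists_div_tau)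

variable {F : Type*} [Field F]

local notation "M" => Matrix (Fin 4) (Fin 4) F
local notation "G4" => GL (Fin 4) F

theorem adj_smul (σ : F →+* F) (c : F) (A : M) : adj σ (c • A) = σ c • adj σ A := by
  ext i j; simp [adj]

theorem adj_neg (σ : F →+* F) (A : M) : adj σ (-A) = -adj σ A := by
  ext i j; simp [adj]

theorem adj_sub (σ : F →+* F) (A B : M) : adj σ (A - B) = adj σ A - adj σ B := by
  ext i j; simp [adj]

theorem trace_adj (σ : F →+* F) (A : M) : (adj σ A).trace = σ A.trace := by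
  simp [adj, Matrix.trace, map_sum]

theorem mem_SL {x : G4} : x ∈ Cfsg.Geo.specialLinear (Fin 4) F ↔ (x : M).det = 1 := by
  rw [Cfsg.Geo.specialLinear, MonoidHom.mem_ker, Units.ext_iff]
  rfl

variable [Fintype F] {p : ℕ}

/-- The adjoint of a unitary element is its inverse. -/
theorem adj_eq_inv (hF : Fintype.card F = p ^ 2) {g : G4} (hg : g ∈ Cfsg.GU 4 F p) :
    adj (conjHom hF) (g : M) = ((g⁻¹ : G4) : M) := by
  have h := (mem_GU_adj hF g).1 hg
  calc adj (conjHom hF) (g : M) = adj (conjHom hF) (g : M) * ((g : M) * ((g⁻¹ : G4) : M)) := by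
        rw [Units.mul_inv, mul_one]
    _ = _ := by rw [← mul_assoc, h, one_mul]

theorem mem_GU_of_inv (hF : Fintype.card F = p ^ 2) {g : G4}
    (h : adj (conjHom hF) (g : M) = ((g⁻¹ : G4) : M)) : g ∈ Cfsg.GU 4 F p :=
  (mem_GU_adj hF g).2 (by rw [h, Units.inv_mul])

theorem trace_inv (hF : Fintype.card F = p ^ 2) {g : G4} (hg : g ∈ Cfsg.GU 4 F p) :
    Matrix.trace ((g⁻¹ : G4) : M) = conjHom hF (g : M).trace := by
  rw [← adj_eq_inv hF hg, trace_adj]

theorem det_norm (hF : Fintype.card F = p ^ 2) {g : G4} (hg : g ∈ Cfsg.GU 4 F p) :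
    conjHom hF (g : M).det * (g : M).det = 1 := by
  rw [← det_adj, ← Matrix.det_mul, (mem_GU_adj hF g).1 hg, Matrix.det_one]

theorem scalar_norm (hF : Fintype.card F = p ^ 2) {g : G4} (hg : g ∈ Cfsg.GU 4 F p) {z : F}
    (hz : (g : M) = z • 1) : conjHom hF z * z = 1 := by
  have h := (mem_GU_adj hF g).1 hg
  rw [hz, adj_smul, adj_one, smul_mul_smul_comm, one_mul] at h
  simpa using congrFun (congrFun h 0) 0

theorem scal_mem (hF : Fintype.card F = p ^ 2) {c : F} (hc : c ≠ 0) (hn : conjHom hF c * c = 1) :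
    scal (ι := Fin 4) hc ∈ Cfsg.GU 4 F p :=
  (mem_GU_adj hF _).2 (by rw [scal_val, adj_smul, adj_one, smul_mul_smul_comm, one_mul, hn, one_smul])

theorem pow_card_norm (hF : Fintype.card F = p ^ 2) {c : F} (hn : conjHom hF c * c = 1) : c ^ (p + 1) = 1 := by
  rw [conjHom_apply, ← pow_succ] at hn
  exact hn

theorem norm_of_pow (hF : Fintype.card F = p ^ 2) {c : F} (h : c ^ (p + 1) = 1) : conjHom hF c * c = 1 := by
  rw [conjHom_apply, ← pow_succ, h]

/-- Determinant of a rank one perturbation of the identity. -/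
theorem det_one_add_idem (h2 : (2 : F) ≠ 0) {E : M} (hE : E * E = E) (hT : E.trace = 1) (hE1 : E ≠ 1) (c : F) :
    (1 + c • E).det = 1 + c := by
  have hee : (1 - (2 : F) • E) * (1 - (2 : F) • E) = 1 := by
    simp only [sub_mul, mul_sub, one_mul, mul_one, smul_mul_smul_comm, hE]
    module
  obtain ⟨a, ha, P, hP, hPN⟩ := SLConj.exists_diag_basis h2 hee
  have htr := SLConj.trace_eq_of_basis hP hPN
  rw [Matrix.trace_sub, Matrix.trace_smul, hT, Matrix.trace_one, Fintype.card_fin, smul_eq_mul, mul_one,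
    Matrix.trace_diagonal, Fin.sum_univ_four] at htr
  have hu : IsUnit P.det := isUnit_iff_ne_zero.mpr hP
  have h3 : a = 3 := by
    interval_cases a
    · exfalso
      refine hE1 ?_
      have hd : Matrix.diagonal (fun j : Fin 4 => if (j : ℕ) < 0 then (1 : F) else -1) = -(1 : M) := by
        rw [← Matrix.diagonal_one, Matrix.diagonal_neg]; congr 1
      rw [hd, mul_neg, mul_one] at hPN
      have h' : 1 - (2 : F) • E = -1 := by
        rw [← Matrix.mul_nonsing_inv_cancel_right (A := P) (1 - (2 : F) • E) hu, hPN, neg_mul,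
          Matrix.mul_nonsing_inv _ hu]
      have h'' : (2 : F) • E = (2 : F) • (1 : M) := by
        rw [two_smul F (1 : M)]
        calc (2 : F) • E = 1 - (1 - (2 : F) • E) := by abel
          _ = 1 + 1 := by rw [h', sub_neg_eq_add]
      exact smul_right_injective M h2 h''
    · exact absurd (show (2 : F) * 2 = 0 by simp at htr; linear_combination htr) (mul_ne_zero h2 h2)
    · exact absurd (show (2 : F) = 0 by simp at htr; linear_combination htr) h2
    · rfl
    · exact absurd (show (2 : F) = 0 by simp at htr; linear_combination -htr) h2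
  subst h3
  have hN : (1 + c • E) * P = P * Matrix.diagonal ![1, 1, 1, 1 + c] := by
    rw [add_mul, one_mul, smul_mul_assoc]
    have e2 : (2 : F) • (E * P) = P * Matrix.diagonal ![0, 0, 0, 2] := by
      calc (2 : F) • (E * P) = P - (1 - (2 : F) • E) * P := by rw [sub_mul, one_mul, smul_mul_assoc]; abel
        _ = P * (1 - Matrix.diagonal (fun j : Fin 4 => if (j : ℕ) < 3 then (1 : F) else -1)) := by
          rw [hPN, mul_sub, mul_one]
        _ = _ := by
          rw [← Matrix.diagonal_one, Matrix.diagonal_sub]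
          congr 2
          funext j; fin_cases j <;> simp; norm_num
    have e1 : E * P = P * Matrix.diagonal ![0, 0, 0, 1] := by
      apply smul_right_injective M h2
      dsimp only
      rw [e2, ← mul_smul_comm, ← Matrix.diagonal_smul]
      congr 2
      funext j; fin_cases j <;> simp
    rw [e1, ← mul_smul_comm, ← Matrix.diagonal_smul]
    conv_lhs => arg 1; rw [← mul_one P]
    rw [← mul_add, ← Matrix.diagonal_one, Matrix.diagonal_add]
    congr 2
    funext j; fin_cases j <;> simp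
  have h := congrArg Matrix.det hN
  rw [Matrix.det_mul, Matrix.det_mul, Matrix.det_diagonal, Fin.prod_univ_four, mul_comm P.det] at h
  exact mul_right_cancel₀ hP (h.trans (by simp))

/-- Linearly conjugate elements of `SU_4` are conjugate in `SU_4`, given a rank one idempotent in the centraliser. -/
theorem exists_conj_SU (hF : Fintype.card F = p ^ 2) (h2 : (2 : F) ≠ 0) {x t : G4}
    (hx : x ∈ Cfsg.GU 4 F p) (ht : t ∈ Cfsg.GU 4 F p) {g₁ : G4} (hg₁ : g₁ * x * g₁⁻¹ = t)
    {E : M} (hE : E * E = E) (hT : E.trace = 1) (hE1 : E ≠ 1) (hEt : (t : M) * E = E * t)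
    (hEE : adj (conjHom hF) E * E = E * adj (conjHom hF) E) :
    ∃ g : G4, g ∈ Cfsg.GU 4 F p ⊓ Cfsg.Geo.specialLinear (Fin 4) F ∧ g⁻¹ * x * g = t := by
  obtain ⟨σ, hσ⟩ : ∃ σ, σ = conjHom hF := ⟨_, rfl⟩
  have hσ2 : ∀ y, σ (σ y) = y := hσ ▸ conjHom_conjHom hF
  rw [← hσ] at hEE
  obtain ⟨g0, hg0⟩ := isConj_iff.1 ((isConj_GU_iff hF ⟨x, hx⟩ ⟨t, ht⟩).2 (isConj_iff.2 ⟨g₁, hg₁⟩))
  have hg0' : (g0 : G4) * x * (g0 : G4)⁻¹ = t := congrArg Subtype.val hg0
  have hd0 : ((g0 : G4) : M).det ≠ 0 := ((Matrix.isUnit_iff_isUnit_det _).1 (g0 : G4).isUnit).ne_zero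
  have hdn : σ ((g0 : G4) : M).det * ((g0 : G4) : M).det = 1 := hσ ▸ det_norm hF g0.2
  obtain ⟨z, hz0, hz⟩ := exists_div_tau (S := F) (hσ ▸ conjHom_ne_id hF) σ hσ2 (fun _ => rfl)
    (((g0 : G4) : M).det)⁻¹ (by rw [map_inv₀, ← mul_inv, mul_comm, hdn, inv_one])
  have hz0' : z ≠ 0 := hz0.ne_zero
  have hσz0 : σ z ≠ 0 := (map_ne_zero σ).2 hz0'
  have hW' : adj σ (1 + (z - 1) • E) = 1 + (σ z - 1) • adj σ E := by
    rw [adj_add, adj_one, adj_smul, map_sub, map_one]
  have hdW : (1 + (z - 1) • E).det = z := by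
    rw [det_one_add_idem h2 hE hT hE1]; ring
  have hdW' : (adj σ (1 + (z - 1) • E)).det = σ z := by rw [det_adj, hdW]
  set W : G4 := Matrix.GeneralLinearGroup.mkOfDetNeZero (1 + (z - 1) • E) (by rw [hdW]; exact hz0')
  set W' : G4 := Matrix.GeneralLinearGroup.mkOfDetNeZero (adj σ (1 + (z - 1) • E)) (by rw [hdW']; exact hσz0)
  have hWv : (W : M) = 1 + (z - 1) • E := rfl
  have hW'v : (W' : M) = adj σ (1 + (z - 1) • E) := rfl
  have hWW : W * W' = W' * W := Units.ext (by
    rw [Units.val_mul, Units.val_mul, hWv, hW'v, hW']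
    simp only [add_mul, mul_add, one_mul, mul_one, smul_mul_smul_comm, hEE, mul_comm (z - 1)]
    abel)
  have htW : t * W = W * t := Units.ext (by
    rw [Units.val_mul, Units.val_mul, hWv, mul_add, add_mul, mul_one, one_mul, mul_smul_comm, smul_mul_assoc, hEt])
  have htE' : (t : M) * adj σ E = adj σ E * t := by
    have h := congrArg (adj σ) hEt
    rw [adj_mul, adj_mul, hσ, adj_eq_inv hF ht, ← hσ] at h
    calc (t : M) * adj σ E = (t : M) * (adj σ E * ((t⁻¹ : G4) : M)) * t := by
          rw [mul_assoc, mul_assoc, Units.inv_mul, mul_one]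
      _ = _ := by rw [h, ← mul_assoc, Units.mul_inv, one_mul]
  have htW' : t * W' = W' * t := Units.ext (by
    rw [Units.val_mul, Units.val_mul, hW'v, hW', mul_add, add_mul, mul_one, one_mul, mul_smul_comm, smul_mul_assoc,
      htE'])
  have hadjW : adj σ (W : M) = (W' : M) := rfl
  have hadjW' : adj σ (((W'⁻¹ : G4)) : M) = ((W⁻¹ : G4) : M) := by
    have h : adj σ ((W'⁻¹ : G4) : M) * (W : M) = 1 := by
      rw [show (W : M) = adj σ (W' : M) by rw [hW'v, adj_adj hσ2, hWv], ← adj_mul, Units.mul_inv, adj_one]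
    calc adj σ ((W'⁻¹ : G4) : M) = adj σ ((W'⁻¹ : G4) : M) * ((W : M) * ((W⁻¹ : G4) : M)) := by
          rw [Units.mul_inv, mul_one]
      _ = _ := by rw [← mul_assoc, h, one_mul]
  have hU : W * W'⁻¹ ∈ Cfsg.GU 4 F p := by
    rw [mem_GU_adj hF, ← hσ, Units.val_mul, adj_mul, hadjW, hadjW', ← Units.val_mul, ← Units.val_mul, ← Units.val_mul]
    rw [show W⁻¹ * W' * (W * W'⁻¹) = 1 by
      rw [mul_assoc, ← mul_assoc W', ← hWW, mul_inv_cancel_right, inv_mul_cancel], Units.val_one]
  have htU : Commute t (W * W'⁻¹) := (show Commute t W from htW).mul_right (show Commute t W' from htW').inv_right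
  refine ⟨(W * W'⁻¹ * g0)⁻¹, inv_mem (Subgroup.mem_inf.2 ⟨mul_mem hU g0.2, mem_SL.2 ?_⟩), ?_⟩
  · have hi : ((W'⁻¹ : G4) : M).det = (σ z)⁻¹ := by
      refine eq_inv_of_mul_eq_one_left ?_
      rw [← hdW', ← hW'v, ← Matrix.det_mul, Units.inv_mul, Matrix.det_one]
    rw [Units.val_mul, Units.val_mul, Matrix.det_mul, Matrix.det_mul, hWv, hdW, hi]
    have h := hz
    field_simp at h ⊢
    linear_combination h
  · rw [inv_inv, _root_.mul_inv_rev,
      show W * W'⁻¹ * (g0 : G4) * x * ((g0 : G4)⁻¹ * (W * W'⁻¹)⁻¹) =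
        W * W'⁻¹ * ((g0 : G4) * x * (g0 : G4)⁻¹) * (W * W'⁻¹)⁻¹ by group,
      hg0', ← htU.eq, mul_inv_cancel_right]

/-- Diagonalisation of a map of order dividing three. -/
theorem exists_basis_three (h3 : (3 : F) ≠ 0) {ω : F} (hω : ω * ω + ω + 1 = 0) {X : M} (hX : X * X * X = 1) :
    ∃ (P : M) (d : Fin 4 → F), P.det ≠ 0 ∧ (∀ j, d j ^ 3 = 1) ∧ X * P = P * Matrix.diagonal d := by
  classical
  have hω3 : ω ^ 3 = 1 := by linear_combination (ω - 1) * hω
  set V := {v : Fin 4 → F | ∃ l : F, l ^ 3 = 1 ∧ X *ᵥ v = l • v}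
  have hmem : ∀ l : F, l ^ 3 = 1 → ∀ v : Fin 4 → F, v + (l * l) • (X *ᵥ v) + l • (X *ᵥ (X *ᵥ v)) ∈ V := by
    intro l hl v
    refine ⟨l, hl, ?_⟩
    have h3' : X *ᵥ (X *ᵥ (X *ᵥ v)) = v := by
      rw [Matrix.mulVec_mulVec, Matrix.mulVec_mulVec, hX, Matrix.one_mulVec]
    simp only [Matrix.mulVec_add, Matrix.mulVec_smul, smul_add, smul_smul, h3']
    rw [show l * (l * l) = 1 by linear_combination hl, one_smul]
    abel
  have hspan : Submodule.span F V = ⊤ := by
    rw [eq_top_iff]
    intro v _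
    have h := Submodule.add_mem _ (Submodule.add_mem _
      (Submodule.subset_span (R := F) (hmem 1 (one_pow 3) v)) (Submodule.subset_span (R := F) (hmem ω hω3 v)))
      (Submodule.subset_span (R := F) (hmem (ω * ω) (by linear_combination (ω ^ 3 + 1) * hω3) v))
    rw [← Submodule.smul_mem_iff (Submodule.span F V) h3]
    refine (congrArg (· ∈ Submodule.span F V) ?_).mp h
    match_scalars
    · norm_num
    · linear_combination hω + ω * hω3
    · linear_combination hω
  let b := Module.Basis.ofSpan hspan.ge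
  let e : Fin 4 ≃ _ := ((Pi.basisFun F (Fin 4)).indexEquiv b)
  have hb : ∀ j, b (e j) ∈ V := fun j =>
    Module.Basis.ofSpan_subset hspan.ge (Set.mem_range_self (e j))
  choose d hd hd' using hb
  refine ⟨SLConj.cols fun j => b (e j), d, SLConj.det_cols_ne (b.linearIndependent.comp e e.injective), hd, ?_⟩
  rw [SLConj.mul_cols, SLConj.cols_mul]
  congr 1
  funext j
  rw [hd', Finset.sum_eq_single j (fun k _ hk => by simp [Matrix.diagonal, hk]) (by simp), Matrix.diagonal_apply_eq]

/-- Elements of order three with equal traces are conjugate. -/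
theorem isConj_of_trace [CharP F p] [Fact p.Prime] (hp : 5 ≤ p) {ω : F} (hω : ω * ω + ω + 1 = 0) {x t : G4}
    (hx : (x : M) * x * x = 1) (ht : (t : M) * t * t = 1) (h1 : (x : M).trace = (t : M).trace)
    (h2' : ((x : M) * x).trace = ((t : M) * t).trace) : ∃ g : G4, g * x * g⁻¹ = t := by
  classical
  have h3 : (3 : F) ≠ 0 := fun e => by
    have := (CharP.cast_eq_zero_iff F p 3).mp (by exact_mod_cast e)
    exact absurd (Nat.le_of_dvd (by norm_num) this) (by omega)
  obtain ⟨P, d, hP, hd, hPN⟩ := exists_basis_three h3 hω hx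
  obtain ⟨Q, d', hQ, hd', hQN⟩ := exists_basis_three h3 hω ht
  have sq : ∀ {y P' : M} {e : Fin 4 → F}, y * P' = P' * Matrix.diagonal e →
      y * y * P' = P' * Matrix.diagonal fun j => e j * e j := fun {y P' e} h => by
    rw [mul_assoc, h, ← mul_assoc, h, mul_assoc, Matrix.diagonal_mul_diagonal]
  rw [SLConj.trace_eq_of_basis hP hPN, SLConj.trace_eq_of_basis hQ hQN, Matrix.trace_diagonal,
    Matrix.trace_diagonal] at h1
  rw [SLConj.trace_eq_of_basis hP (sq hPN), SLConj.trace_eq_of_basis hQ (sq hQN), Matrix.trace_diagonal,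
    Matrix.trace_diagonal] at h2'
  have cnt : ∀ (e : Fin 4 → F), (∀ j, e j ^ 3 = 1) → ∀ μ : F, μ ^ 3 = 1 →
      (3 : F) * ((Finset.univ.filter fun j => e j = μ).card : F) = 4 + μ * μ * ∑ j, e j + μ * ∑ j, e j * e j := by
    intro e he μ hμ
    rw [← Finset.sum_boole, Finset.mul_sum, Finset.mul_sum, Finset.mul_sum,
      show (4 : F) = ∑ _j : Fin 4, (1 : F) by simp, ← Finset.sum_add_distrib, ← Finset.sum_add_distrib]
    refine Finset.sum_congr rfl fun j _ => ?_
    split_ifs with hj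
    · rw [hj, mul_one]; linear_combination (-2 : F) * hμ
    · have h0 : (e j - μ) * (e j * e j + μ * e j + μ * μ) = 0 := by linear_combination he j - hμ
      have h0' := (mul_eq_zero.mp h0).resolve_left (sub_ne_zero.mpr hj)
      rw [mul_zero]
      linear_combination (-μ) * h0' + hμ
  have hcard : ∀ μ : F, Fintype.card {j // d j = μ} = Fintype.card {j // d' j = μ} := by
    intro μ
    rw [Fintype.card_subtype, Fintype.card_subtype]
    by_cases hμ : μ ^ 3 = 1
    · have e := (cnt d hd μ hμ).trans ((show _ = _ by rw [h1, h2']).trans (cnt d' hd' μ hμ).symm)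
      have e' := mul_left_cancel₀ h3 e
      rw [CharP.natCast_eq_natCast F p, Nat.ModEq] at e'
      have b1 := Finset.card_le_univ (Finset.univ.filter fun j => d j = μ)
      have b2 := Finset.card_le_univ (Finset.univ.filter fun j => d' j = μ)
      rw [Fintype.card_fin] at b1 b2
      rwa [Nat.mod_eq_of_lt (by omega), Nat.mod_eq_of_lt (by omega)] at e'
    · rw [Finset.filter_false_of_mem fun j _ hj => hμ (by rw [← hj]; exact hd j),
        Finset.filter_false_of_mem fun j _ hj => hμ (by rw [← hj]; exact hd' j)]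
  let f := Equiv.ofFiberEquiv fun μ => Fintype.equivOfCardEq (hcard μ)
  have hf : ∀ j, d' (f j) = d j := fun j => Equiv.ofFiberEquiv_map _ j
  have hQ' : (Q.submatrix id f).det ≠ 0 := by
    rw [Matrix.det_permute']
    exact mul_ne_zero (by
      rcases Int.units_eq_one_or (Equiv.Perm.sign f) with e | e <;> simp [e]) hQ
  have hQN' : (t : M) * Q.submatrix id f = Q.submatrix id f * Matrix.diagonal d := by
    ext i j
    rw [Matrix.mul_diagonal, Matrix.submatrix_apply, id_eq, ← hf j]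
    have h := congrFun (congrFun hQN i) (f j)
    rw [Matrix.mul_diagonal] at h
    rw [← h]
    simp [Matrix.mul_apply]
  refine ⟨Matrix.GeneralLinearGroup.mkOfDetNeZero _ hQ' * (Matrix.GeneralLinearGroup.mkOfDetNeZero P hP)⁻¹, ?_⟩
  rw [mul_inv_eq_iff_eq_mul, ← mul_assoc t, eq_mul_inv_iff_mul_eq]
  refine Units.ext ?_
  set Pu : G4 := Matrix.GeneralLinearGroup.mkOfDetNeZero P hP
  set Qu : G4 := Matrix.GeneralLinearGroup.mkOfDetNeZero (Q.submatrix id f) hQ'
  simp only [Units.val_mul]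
  rw [show (t : M) * (Qu : M) = (Qu : M) * Matrix.diagonal d from hQN', mul_assoc, mul_assoc,
    show (x : M) * (Pu : M) = (Pu : M) * Matrix.diagonal d from hPN, ← mul_assoc _ (Pu : M), Units.inv_mul, one_mul]

end Cfsg.Agent.Lib.SympFour.UnitaryFour
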