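import Cfsg.Agent.Lib.Similar.Unitary
import Cfsg.Agent.Lib.SympFour.Unitary
import Mathlib

/-!
Elements of order five in `GU_4(p)` when `p` has order four modulo five.
-/

set_option autoImplicit false

namespace Cfsg.Agent.Lib.SympFour.UnitaryFour

open Matrix
open Cfsg.Agent.Lib.Classical (conjHom conjHom_apply)
open Cfsg.Agent.Lib.SuSpec (adj)

variable {F : Type*} [Field F] [Fintype F] {p : ℕ} [Fact p.Prime] [CharP F p]

local notation "M" => Matrix (Fin 4) (Fin 4) F
local notation "G4" => GL (Fin 4) F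

theorem five_ne_zero (ho : orderOf (p : ZMod 5) = 4) : (5 : F) ≠ 0 := fun e => by
  have h := (Nat.prime_dvd_prime_iff_eq Fact.out (by norm_num : Nat.Prime 5)).mp
    ((CharP.cast_eq_zero_iff F p 5).mp (by exact_mod_cast e))
  subst h
  rw [ZMod.natCast_self, orderOf_zero] at ho
  omega

theorem mod_five (ho : orderOf (p : ZMod 5) = 4) : 4 * p % 5 = 2 ∨ 4 * p % 5 = 3 := by
  haveI : Fact (Nat.Prime 5) := ⟨by norm_num⟩
  have h : (p : ZMod 5) = ((p % 5 : ℕ) : ZMod 5) := (ZMod.natCast_mod p 5).symm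
  have hlt := Nat.mod_lt p (show 5 > 0 by norm_num)
  rw [h] at ho
  have hk : ¬ (p % 5 = 0 ∨ p % 5 = 1 ∨ p % 5 = 4) := by
    rintro (e | e | e) <;> rw [e] at ho
    · rw [Nat.cast_zero, orderOf_zero] at ho; omega
    · rw [Nat.cast_one, orderOf_one] at ho; omega
    · have : orderOf ((4 : ℕ) : ZMod 5) ∣ 2 := orderOf_dvd_of_pow_eq_one (by rfl)
      rw [ho] at this
      omega
  rw [Nat.mul_mod]
  have h' : p % 5 = 2 ∨ p % 5 = 3 := by omega
  rcases h' with e | e <;> simp [e]

/-- An element of order five has no fixed vector. -/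
theorem no_fixed (hF : Fintype.card F = p ^ 2) (ho : orderOf (p : ZMod 5) = 4) {z : G4}
    (hz : z ∈ Cfsg.GU 4 F p) (hz5 : z ^ 5 = 1) (hz1 : z ≠ 1) {v : Fin 4 → F} (hv : (z : M) *ᵥ v = v) : v = 0 := by
  classical
  by_contra hv0
  let K := AlgebraicClosure F
  haveI : CharP K p := charP_of_injective_algebraMap (algebraMap F K).injective p
  have h5 : (5 : K) ≠ 0 := fun e => five_ne_zero (F := F) ho ((algebraMap F K).injective (by rw [map_ofNat, map_zero]; exact e))
  haveI : NeZero ((5 : ℕ) : K) := ⟨by exact_mod_cast h5⟩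
  let f : Matrix (Fin 4) (Fin 4) F →+* Matrix (Fin 4) (Fin 4) K := (algebraMap F K).mapMatrix
  let Z := f (z : M)
  have hZ5 : Z ^ 5 = 1 := by rw [← map_pow, ← Units.val_pow_eq_pow_val, hz5, Units.val_one, map_one]
  let E : K → Prop := fun μ => ∃ w : Fin 4 → K, w ≠ 0 ∧ Z *ᵥ w = μ • w
  have hE1 : E 1 := by
    refine ⟨fun i => algebraMap F K (v i), fun e => hv0 (funext fun i => (algebraMap F K).injective ?_), ?_⟩
    · rw [show algebraMap F K (v i) = 0 from congrFun e i]; simp
    · funext i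
      rw [one_smul]
      have h := RingHom.map_mulVec (algebraMap F K) (z : M) v i
      rw [hv] at h
      exact h.symm
  obtain ⟨μ₀, hμ₀⟩ : ∃ μ : K, IsPrimitiveRoot μ 5 := by
    obtain ⟨μ, hμ⟩ := IsAlgClosed.exists_root (Polynomial.cyclotomic 5 K) (by
      rw [Polynomial.degree_cyclotomic]; decide)
    exact ⟨μ, (Polynomial.isRoot_cyclotomic_iff).mp hμ⟩
  -- some primitive fifth root is an eigenvalue
  obtain ⟨μ, hμ, hEμ⟩ : ∃ μ : K, IsPrimitiveRoot μ 5 ∧ E μ := by
    by_contra hno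
    push Not at hno
    let T : K → Matrix (Fin 4) (Fin 4) K := fun c => ∑ i ∈ Finset.range 5, (c • Z) ^ i
    have hT : ∀ k : ℕ, ¬ 5 ∣ k → T (μ₀ ^ k) = 0 := by
      intro k hk
      have hc := hμ₀.pow_of_coprime k ((Nat.coprime_comm.mp ((Nat.Prime.coprime_iff_not_dvd (by norm_num)).mpr hk)))
      have h := mul_geom_sum ((μ₀ ^ k) • Z) 5
      rw [_root_.smul_pow, hZ5, hc.pow_eq_one, one_smul, sub_self, sub_mul, one_mul, sub_eq_zero] at h
      refine Matrix.ext_of_mulVec_single fun i => ?_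
      by_contra hne
      rw [Matrix.zero_mulVec] at hne
      refine hno (μ₀ ^ k)⁻¹ hc.inv ⟨_, hne, ?_⟩
      have h' := congrArg (fun A => A *ᵥ Pi.single i (1 : K)) h
      simp only [← Matrix.mulVec_mulVec, Matrix.smul_mulVec] at h'
      conv_rhs => rw [show T (μ₀ ^ k) = ∑ i ∈ Finset.range 5, (μ₀ ^ k • Z) ^ i from rfl, ← h']
      rw [inv_smul_smul₀ (hc.ne_zero (by norm_num))]
    have hsum : ∑ k ∈ Finset.range 5, T (μ₀ ^ k) = (5 : K) • 1 := by
      simp only [T, _root_.smul_pow]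
      rw [Finset.sum_comm]
      simp only [← Finset.sum_smul]
      rw [Finset.sum_eq_single 0]
      · simp
      · intro i hi hi0
        have hlt : i < 5 := Finset.mem_range.mp hi
        have hc := hμ₀.pow_of_coprime i (Nat.coprime_comm.mp ((Nat.Prime.coprime_iff_not_dvd (by norm_num)).mpr
          (fun h => by have := Nat.le_of_dvd (by omega) h; omega)))
        rw [show ∑ k ∈ Finset.range 5, (μ₀ ^ k) ^ i = 0 by
          rw [← hc.geom_sum_eq_zero (by norm_num)]
          exact Finset.sum_congr rfl fun k _ => by rw [← pow_mul, ← pow_mul, mul_comm], zero_smul]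
      · simp
    rw [Finset.sum_range_succ', Finset.sum_eq_zero (fun k hk => hT (k + 1) (fun h => by
      have := Finset.mem_range.mp hk; have := Nat.le_of_dvd (by omega) h; omega)), zero_add, pow_zero] at hsum
    have h := mul_geom_sum ((1 : K) • Z) 5
    simp only [_root_.smul_pow, hZ5, one_pow, one_smul, sub_self] at h
    simp only [T, one_smul] at hsum
    rw [hsum, mul_smul_comm, mul_one, smul_eq_zero, sub_eq_zero] at h
    refine hz1 (Units.ext (Matrix.map_injective (algebraMap F K).injective ?_))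
    have hZ1 : Z = f 1 := by rw [map_one]; exact h.resolve_left h5
    exact hZ1
  have hμ5 : μ ^ 5 = 1 := hμ.pow_eq_one
  have hstep : ∀ k : ℕ, ¬ 5 ∣ k → E (μ ^ k) → E (μ ^ (k * (4 * p))) := by
    rintro k - ⟨w, hw0, hw⟩
    let φ : K →+* K := frobenius K p
    have h1 : (f ((z⁻¹ : G4) : M))ᵀ *ᵥ (fun i => φ (w i)) = (μ ^ (k * p)) • fun i => φ (w i) := by
      have hm : (f ((z⁻¹ : G4) : M))ᵀ = Z.map φ := by
        rw [← adj_eq_inv hF hz]
        ext i j
        simp [f, Z, adj, φ, frobenius_def, conjHom_apply, map_pow]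
      funext i
      rw [hm]
      refine (RingHom.map_mulVec φ Z w i).symm.trans ?_
      rw [hw]
      simp [φ, frobenius_def, mul_pow, ← pow_mul]
    have hdet : (Z - (μ ^ (k * (4 * p))) • 1).det = 0 := by
      rw [← Matrix.det_transpose, Matrix.transpose_sub, Matrix.transpose_smul, Matrix.transpose_one,
        ← Matrix.exists_mulVec_eq_zero_iff]
      refine ⟨fun i => φ (w i), fun e => hw0 (funext fun i => φ.injective (by
        rw [show φ (w i) = 0 from congrFun e i]; simp)), ?_⟩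
      have h2 := congrArg (fun u => Zᵀ *ᵥ u) h1
      rw [Matrix.mulVec_smul, Matrix.mulVec_mulVec] at h2
      rw [← Matrix.transpose_mul, show f ((z⁻¹ : G4) : M) * Z = 1 by rw [← map_mul, Units.inv_mul, map_one],
        Matrix.transpose_one, Matrix.one_mulVec] at h2
      rw [Matrix.sub_mulVec, Matrix.smul_mulVec, Matrix.one_mulVec, sub_eq_zero]
      conv_rhs => rw [h2, smul_smul, ← pow_add, show k * (4 * p) + k * p = 5 * (k * p) by ring, pow_mul, hμ5,
        one_pow, one_smul]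
    obtain ⟨u, hu0, hu⟩ := Matrix.exists_mulVec_eq_zero_iff.mpr hdet
    rw [Matrix.sub_mulVec, Matrix.smul_mulVec, Matrix.one_mulVec, sub_eq_zero] at hu
    exact ⟨u, hu0, hu⟩
  have hEk : ∀ k : Fin 5, E (μ ^ (k : ℕ)) := by
    have e1 : E (μ ^ 1) := by rwa [pow_one]
    have e2 := hstep 1 (by norm_num) e1
    rw [pow_eq_pow_mod _ hμ5] at e2
    have hm := mod_five ho
    have e3 := hstep (1 * (4 * p) % 5) (by omega) e2
    have e4 := fun h => hstep _ h e3
    rw [pow_eq_pow_mod _ hμ5] at e3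
    have e4' := hstep (1 * (4 * p) % 5 * (4 * p) % 5) (by
      rw [one_mul, Nat.mul_mod]; rcases hm with h | h <;> simp [h]) e3
    rw [pow_eq_pow_mod _ hμ5] at e4'
    rcases hm with h | h <;>
      · simp [one_mul, Nat.mul_mod, h] at e2 e3 e4'
        intro k
        fin_cases k
        · simpa using hE1
        all_goals first | simpa using e1 | simpa using e2 | simpa using e3 | simpa using e4'
  choose w hw0 hw using hEk
  have hli := Module.End.eigenvectors_linearIndependent' Z.mulVecLin (fun k : Fin 5 => μ ^ (k : ℕ))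
    (fun a b e => Fin.ext (hμ.pow_inj a.2 b.2 e)) w fun k => ⟨Module.End.mem_eigenspace_iff.mpr (hw k), hw0 k⟩
  have := hli.fintype_card_le_finrank
  simp at this

/-- The sum of the powers of an element of order five vanishes. -/
theorem sum_pow_eq_zero (hF : Fintype.card F = p ^ 2) (ho : orderOf (p : ZMod 5) = 4) {z : G4}
    (hz : z ∈ Cfsg.GU 4 F p) (hz5 : z ^ 5 = 1) (hz1 : z ≠ 1) : (∑ i ∈ Finset.range 5, (z : M) ^ i) = 0 := by
  refine Matrix.ext_of_mulVec_single fun i => ?_
  rw [Matrix.zero_mulVec]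
  refine no_fixed hF ho hz hz5 hz1 ?_
  have h := mul_geom_sum (z : M) 5
  rw [← Units.val_pow_eq_pow_val, hz5, Units.val_one, sub_self, sub_mul, one_mul, sub_eq_zero] at h
  rw [Matrix.mulVec_mulVec, h]

/-- Commuting elements of order five generate the same subgroup. -/
theorem exists_pow_eq (hF : Fintype.card F = p ^ 2) (ho : orderOf (p : ZMod 5) = 4) {z y : G4}
    (hz : z ∈ Cfsg.GU 4 F p) (hy : y ∈ Cfsg.GU 4 F p) (hz5 : z ^ 5 = 1) (hz1 : z ≠ 1) (hy5 : y ^ 5 = 1)
    (hc : Commute y z) : ∃ k : ℕ, y = z ^ k := by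
  by_contra hno
  push Not at hno
  have hzi : ∀ i : ℕ, ¬ 5 ∣ i → (∑ k ∈ Finset.range 5, ((z : M) ^ i) ^ k) = 0 := by
    intro i hi
    have h := sum_pow_eq_zero hF ho (pow_mem hz i) (by rw [← pow_mul, mul_comm, pow_mul, hz5, one_pow]) (fun e => hi (by
      have : Fact (Nat.Prime 5) := ⟨by norm_num⟩
      rw [← orderOf_eq_prime hz5 hz1]
      exact orderOf_dvd_of_pow_eq_one e))
    simpa [Units.val_pow_eq_pow_val] using h
  have hyz : ∀ k : ℕ, (∑ i ∈ Finset.range 5, ((y : M) * (z : M) ^ k) ^ i) = 0 := by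
    intro k
    have h := sum_pow_eq_zero hF ho (mul_mem hy (pow_mem hz k))
      (by rw [(hc.pow_right k).mul_pow, hy5, one_mul, ← pow_mul, mul_comm, pow_mul, hz5, one_pow]) (fun e => hno (4 * k) (by
        rw [eq_inv_of_mul_eq_one_left e]
        refine inv_eq_of_mul_eq_one_right ?_
        rw [← pow_add, show k + 4 * k = 5 * k by ring, pow_mul, hz5, one_pow]))
    simpa [Units.val_pow_eq_pow_val] using h
  have htot : (∑ k ∈ Finset.range 5, ∑ i ∈ Finset.range 5, ((y : M) * (z : M) ^ k) ^ i) = (5 : F) • (1 : M) := by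
    rw [Finset.sum_comm]
    have hcm : ∀ k, Commute (y : M) ((z : M) ^ k) := fun k =>
      (show Commute (y : M) (z : M) from congrArg (fun g : G4 => (g : M)) hc.eq).pow_right k
    simp only [(hcm _).mul_pow, ← Finset.mul_sum, ← pow_mul]
    rw [Finset.sum_eq_single 0]
    · simp
      exact (map_ofNat (algebraMap F M) 5).symm.trans (Algebra.algebraMap_eq_smul_one _)
    · intro i hi hi0
      have := Finset.mem_range.mp hi
      rw [show ∑ k ∈ Finset.range 5, (z : M) ^ (k * i) = 0 by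
        rw [← hzi i (fun h => by have := Nat.le_of_dvd (by omega) h; omega)]
        exact Finset.sum_congr rfl fun k _ => by rw [← pow_mul, mul_comm], mul_zero]
    · simp
  rw [Finset.sum_congr rfl (fun k _ => hyz k), Finset.sum_const_zero] at htot
  exact five_ne_zero (F := F) ho ((smul_eq_zero.mp htot.symm).resolve_right one_ne_zero)

/-- All subgroups of order five are conjugate when commuting ones coincide. -/
theorem exists_conj_pow_of {G : Type*} [Group G] [Finite G]
    (hc : ∀ z y : G, z ^ 5 = 1 → z ≠ 1 → y ^ 5 = 1 → Commute y z → ∃ k : ℕ, y = z ^ k)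
    {x y : G} (hx5 : x ^ 5 = 1) (hy5 : y ^ 5 = 1) (hy1 : y ≠ 1) : ∃ g : G, ∃ k : ℕ, g⁻¹ * x * g = y ^ k := by
  classical
  haveI : Fact (Nat.Prime 5) := ⟨by norm_num⟩
  have hp : ∀ w : G, w ^ 5 = 1 → IsPGroup 5 (Subgroup.zpowers w) := fun w hw g => by
    obtain ⟨n, hn⟩ := Subgroup.mem_zpowers_iff.mp g.2
    refine ⟨1, Subtype.ext ?_⟩
    change (g : G) ^ 5 ^ 1 = 1
    rw [← hn, pow_one, ← zpow_natCast, ← _root_.zpow_mul, mul_comm, _root_.zpow_mul, zpow_natCast, hw, _root_.one_zpow]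
  obtain ⟨P, hP⟩ := (hp x hx5).exists_le_sylow
  obtain ⟨Q, hQ⟩ := (hp y hy5).exists_le_sylow
  obtain ⟨g, hg⟩ := MulAction.exists_smul_eq G Q P
  have hy'P : g * y * g⁻¹ ∈ (P : Subgroup G) := by
    rw [← hg, Sylow.smul_def]
    exact Subgroup.smul_mem_pointwise_smul y (MulAut.conj g) _ (hQ (Subgroup.mem_zpowers y))
  have hne : g * y * g⁻¹ ≠ 1 := fun e => hy1 (conj_eq_one_iff.mp e)
  haveI : Nontrivial (P : Subgroup G) := ⟨⟨⟨_, hy'P⟩, 1, fun e => hne (congrArg Subtype.val e)⟩⟩
  haveI := P.2.center_nontrivial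
  obtain ⟨n, hn⟩ := (P.2.to_subgroup (Subgroup.center (P : Subgroup G))).exists_card_eq
  obtain ⟨w, hw⟩ := exists_prime_orderOf_dvd_card' (G := Subgroup.center (P : Subgroup G)) 5 (by
    have h1 : 1 < Nat.card (Subgroup.center (P : Subgroup G)) := Finite.one_lt_card_iff_nontrivial.mpr inferInstance
    rw [hn] at h1 ⊢
    rcases n with _ | n
    · simp at h1
    · exact dvd_pow_self 5 (Nat.succ_ne_zero n))
  let z : G := (w : (P : Subgroup G))
  have hz5 : z ^ 5 = 1 := by
    have := pow_orderOf_eq_one w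
    rw [hw] at this
    exact congrArg (fun a : Subgroup.center (P : Subgroup G) => ((a : (P : Subgroup G)) : G)) this
  have hz1 : z ≠ 1 := fun e => by
    have : w = 1 := Subtype.ext (Subtype.ext e)
    rw [this, orderOf_one] at hw
    omega
  have hin : ∀ a : G, a ∈ (P : Subgroup G) → a ^ 5 = 1 → ∃ m : ℕ, a = z ^ m := fun a ha ha5 =>
    hc z a hz5 hz1 ha5 (congrArg (fun b : (P : Subgroup G) => (b : G)) (Subgroup.mem_center_iff.mp w.2 ⟨a, ha⟩))
  obtain ⟨a, ha⟩ := hin x (hP (Subgroup.mem_zpowers x)) hx5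
  obtain ⟨b, hb⟩ := hin _ hy'P (by rw [conj_pow, hy5, mul_one, mul_inv_cancel])
  have hyo : orderOf (g * y * g⁻¹) = 5 := orderOf_eq_prime (by rw [conj_pow, hy5, mul_one, mul_inv_cancel]) hne
  obtain ⟨c, hcy⟩ : ∃ c : ℕ, z = (g * y * g⁻¹) ^ c :=
    hc _ z (by rw [conj_pow, hy5, mul_one, mul_inv_cancel]) hne hz5 (hb ▸ (Commute.refl z).pow_right b)
  refine ⟨g, c * a, ?_⟩
  rw [ha, hcy, ← pow_mul, conj_pow]
  group

end Cfsg.Agent.Lib.SympFour.UnitaryFour
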